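import Cfsg.Agent.H630.NHBabyC
import Cfsg.Agent.H680.PQR.BEleven
import Cfsg.Agent.H59.ESixField
import Cfsg.Agent.H590.F4.CBig

/-!
# S2491, row F4, box C : elements of `²E₆(2)` of order divisible by 11 (helper590)

* `cent_B` : the centralizers of the elements of order 11 of the Baby Monster have at most 1320 elements;
* `two_mul_le` : `2 |C_E(e)| ≤ |C_X(x)|` for a double cover `X₀ ≤ X` of `E`, `e` of odd order;
* `c_eleven`, `c_big`.
-/

set_option autoImplicit false

namespace Cfsg.Agent.H590.F4.CEleven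

open Cfsg Cfsg.Lie Subgroup
open Cfsg.Agent.H231.QF
open Cfsg.Agent.BabyComp

universe u

theorem cent_B {L : Type u} [Group L] [Finite L] (h : Spor.IsoB L) {y : L} (hy : orderOf y = 11) :
    Nat.card ↥(centralizer ({y} : Set L)) ≤ 1320 := by
  obtain ⟨t, x, ht, hx, hxt, hc⟩ := Cfsg.Agent.H630.Baby.exists_lift_card h (by norm_num) (by norm_num) hy
  have hfin : Finite Cfsg.Agent.H630.Baby.Mon := Cfsg.Agent.MThirteen.Row.finite
  have h1 := Cfsg.Agent.H680.PQR.eleven_pair (y := x) (t := t) hx (Cfsg.Agent.MThirteen.Row.ta_order ht) hxt.symm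
  have h2 : Nat.card ↥(Cfsg.Agent.LThreeB.XT x t) ≤
      Nat.card ↥(centralizer ({x} : Set Cfsg.Agent.H630.Baby.Mon) ⊓ centralizer ({t} : Set Cfsg.Agent.H630.Baby.Mon) :
        Subgroup Cfsg.Agent.H630.Baby.Mon) := by
    refine Subgroup.card_le_of_le ?_
    intro g hg
    exact ⟨mem_centralizer_singleton_iff.2 (Cfsg.Agent.LThreeB.mem_XT.1 hg).1,
      mem_centralizer_singleton_iff.2 (Cfsg.Agent.LThreeB.mem_XT.1 hg).2⟩
  have h3 := h2.trans h1
  rw [hc] at h3
  omega

variable {X E : Type*} [Group X] [Finite X] [Group E] [Finite E] {t : X} {X₀ : Subgroup X} {σ : ↥X₀ →* E}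

theorem two_mul_le (H : Sec.Data t σ) {e : E} (he : Odd (orderOf e)) :
    ∃ x : X, orderOf x = orderOf e ∧
      Nat.card ↥(centralizer ({e} : Set E)) * 2 ≤ Nat.card ↥(centralizer ({x} : Set X)) := by
  obtain ⟨b, hb⟩ := H.surj e
  obtain ⟨n, hn⟩ : ∃ n, n = orderOf e := ⟨_, rfl⟩
  rw [← hn] at he
  have hen : e ^ n = 1 := by rw [hn, pow_orderOf_eq_one]
  obtain ⟨m, hm⟩ := he
  have hσx : σ (b ^ (n + 1)) = e := by rw [map_pow, hb, pow_succ, hen, one_mul]
  obtain ⟨x, hx⟩ : ∃ x, x = b ^ (n + 1) := ⟨_, rfl⟩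
  rw [← hx] at hσx
  have hxn : x ^ n = 1 := by
    rw [hx, ← pow_mul, mul_comm, pow_mul]
    apply Subtype.ext
    rcases (H.ker (b ^ n)).1 (by rw [map_pow, hb, hen]) with h1 | h1
    · rw [Subgroup.coe_pow, h1, one_pow]; rfl
    · rw [Subgroup.coe_pow, h1, hm, show 2 * m + 1 + 1 = 2 * (m + 1) by ring, pow_mul, pow_two, H.t_sq, one_pow]; rfl
  have hxo : orderOf x = n := by
    refine Nat.dvd_antisymm (orderOf_dvd_of_pow_eq_one hxn) ?_
    rw [hn, ← hσx]
    exact orderOf_map_dvd σ x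
  refine ⟨x, by rw [Subgroup.orderOf_coe, hxo, hn], ?_⟩
  have hc : ∀ w ∈ (centralizer ({e} : Set E)).comap σ, (w : X) * x = x * w := by
    intro w hw
    have h1 : σ w * e = e * σ w := mem_centralizer_singleton_iff.1 hw
    have h2 : σ (w * x) = σ (x * w) := by rw [map_mul, map_mul, hσx, h1]
    rcases H.map_eq.1 h2 with h3 | h3
    · exact h3
    · exfalso
      have ht : ∀ a : X₀, (a : X) * t = t * a := fun a => H.comm a a.2
      have h4 : (w : X) * x * (w : X)⁻¹ = x * t := by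
        have h5 : (w : X) * x = x * w * t := h3
        rw [h5, mul_assoc (x : X), ht w]
        group
      have h7 : (x : X) ^ n = 1 := congrArg Subtype.val hxn
      have h6 : ((w : X) * x * (w : X)⁻¹) ^ n = 1 := by
        rw [conj_pow, h7, mul_one, mul_inv_cancel]
      rw [h4, (show Commute (x : X) t from ht x).mul_pow, hm, pow_succ t, pow_mul t, pow_two, H.t_sq, one_pow, one_mul,
        ← hm, h7, one_mul] at h6
      exact H.t_ne h6
  have hker : 2 ≤ Nat.card ↥σ.ker := by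
    have h1 : Nontrivial ↥σ.ker := ⟨⟨1, ⟨⟨t, H.mem⟩, (H.ker _).2 (Or.inr rfl)⟩, fun h2 => H.t_ne
      (congrArg (fun a : ↥σ.ker => ((a : ↥X₀) : X)) h2).symm⟩⟩
    exact Finite.one_lt_card_iff_nontrivial.2 h1
  have hcard : Nat.card ↥(centralizer ({e} : Set E)) * 2 ≤ Nat.card ↥((centralizer ({e} : Set E)).comap σ) := by
    rw [Cfsg.Agent.H680.PQR.card_comap H.surj]
    exact Nat.mul_le_mul_left _ hker
  refine hcard.trans ?_
  refine Nat.card_le_card_of_injective (fun w : ↥((centralizer ({e} : Set E)).comap σ) =>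
    (⟨((w : X₀) : X), mem_centralizer_singleton_iff.2 (hc w w.2)⟩ : ↥(centralizer ({(x : X)} : Set X)))) ?_
  intro a b hab
  have h8 : ((a : X₀) : X) = ((b : X₀) : X) := Subtype.mk.inj hab
  exact Subtype.ext (Subtype.ext h8)

variable {F : Type u} [Field F] [Fintype F] (hF : Fintype.card F = 4)

include hF

theorem cent_eleven {y : KK F} (hy : orderOf y = 11) : Nat.card ↥(centralizer ({y} : Set (KK F))) ≤ 660 := by
  have hfin := Cfsg.Agent.CTwoTab.BInst.finite_B
  obtain ⟨K, iF, iT, hK, t, X₀, σ, D, ht, hcard⟩ := Cfsg.Agent.CTwoTab.BInst.exists_sec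
  have hfK : Finite ↥(twistedE6 K 2) := inferInstance
  have f : F ≃+* K := FiniteField.ringEquivOfCardEq (hF.trans hK.symm)
  let e := Cfsg.Agent.H59.ESixField.equiv f 2
  have hey : orderOf (e y) = 11 := by rw [MulEquiv.orderOf_eq, hy]
  obtain ⟨x, hx, h1⟩ := two_mul_le D (e := e y) (by rw [hey]; decide)
  have h2 := cent_B (L := Spor.BabyMonster) ⟨MulEquiv.refl _⟩ (y := x) (by rw [hx, hey])
  have h3 : Nat.card ↥(centralizer ({e y} : Set ↥(twistedE6 K 2))) = Nat.card ↥(centralizer ({y} : Set (KK F))) :=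
    (Cfsg.Agent.LThreeB.card_centralizer_congr e y).symm
  omega

theorem c_eleven (g : KK F) (h : 11 ∣ orderOf g) : Sm g := by
  have : Finite (KK F) := inferInstance
  obtain ⟨y, hy, -, hle⟩ := CBig.exists_part h
  exact (card_le_of_le hle).trans ((cent_eleven hF hy).trans (by norm_num))

/-- **C, big primes** -/
theorem c_big (g : KK F) {p : ℕ} (hp : p = 11 ∨ p = 13 ∨ p = 17 ∨ p = 19) (h : p ∣ orderOf g) : Sm g := by
  rcases hp with rfl | rfl | rfl | rfl
  · exact c_eleven hF g h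
  · exact CBig.c_thirteen hF g h
  · exact CBig.c_seventeen hF g h
  · exact CBig.c_nineteen hF g h

end Cfsg.Agent.H590.F4.CEleven
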