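import Cfsg.Agent.H590.F4.P4
import Cfsg.Agent.H164.F4.Out
import Cfsg.Agent.Nodes.CardSup
import Cfsg.Agent.KFacts.TwESix.OutTwo
import Cfsg.Agent.KFacts.TwESix.CentOrth
import Cfsg.Agent.KFacts.TwESix.Dat
import Cfsg.Agent.H62.PPIdx

/-!
# The two layers of the unipotent radical of `P₄ = 2^(8+16):Ω₈⁻(2)` (helper590, row F4 of S2491)
-/

set_option autoImplicit false
set_option linter.unusedSectionVars false

namespace Cfsg.Agent.H590.F4.Lay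

open CoxeterSystem Cfsg.Agent.ChevalleyStructure.CoxeterGeom Cfsg.Agent.Tits.Roots Cfsg.Agent.Tits.Core
  Cfsg.Agent.Tits.RootComb Cfsg.Agent.Nodes.Reps Cfsg.Agent.Nodes.BNOf Cfsg.Agent.Nodes.Coroot
  Cfsg.Agent.Nodes.StabComb Cfsg.Agent.Nodes.Bruhat Cfsg.Agent.Nodes.OppDec Cfsg.Agent.Nodes.LeviDec
  Cfsg.Agent.KFacts.RgdSL Cfsg.Agent.KFacts.RgdTI Cfsg.Agent.Nodes.RGDTwE6 Cfsg.Agent.KFacts.TwESix.Comb Cfsg.Agent.KFacts.TwESix.Btw
open Cfsg.Agent.KFacts.TwESix.CentOrth Cfsg.Agent.KFacts.TwESix.Facts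
open Cfsg.Agent.Nodes.Unique Cfsg.Agent.Nodes.CardSup
open Cfsg.Agent.H326.QS.VP (Q)
open Cfsg.Agent.H231.QF (KK j4)
open Cfsg.Lie Subgroup
open scoped commutatorElement

universe u

/-- commutators with a fixed element -/
theorem comm_sup {G : Type*} [Group G] {ι : Type*} {N M : Subgroup G} {S : Set ι} {X : ι → Subgroup G}
    (hM : ∀ n ∈ N, ∀ m ∈ M, n * m * n⁻¹ ∈ M) (hXN : ∀ i ∈ S, X i ≤ N) {a : G}
    (h : ∀ i ∈ S, ∀ b ∈ X i, a * b * a⁻¹ * b⁻¹ ∈ M) {b : G} (hb : b ∈ (⨆ i : S, X i.1 : Subgroup G)) :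
    a * b * a⁻¹ * b⁻¹ ∈ M := by
  let K : Subgroup G :=
    { carrier := {b | b ∈ N ∧ a * b * a⁻¹ * b⁻¹ ∈ M}
      one_mem' := ⟨N.one_mem, by simp⟩
      mul_mem' := by
        rintro b c ⟨hb, hb'⟩ ⟨hc, hc'⟩
        refine ⟨N.mul_mem hb hc, ?_⟩
        have e : a * (b * c) * a⁻¹ * (b * c)⁻¹ = (a * b * a⁻¹ * b⁻¹) * (b * (a * c * a⁻¹ * c⁻¹) * b⁻¹) := by
          group
        rw [e]
        exact M.mul_mem hb' (hM b hb _ hc')
      inv_mem' := by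
        rintro b ⟨hb, hb'⟩
        refine ⟨N.inv_mem hb, ?_⟩
        have e : a * b⁻¹ * a⁻¹ * b⁻¹⁻¹ = b⁻¹ * (a * b * a⁻¹ * b⁻¹)⁻¹ * b⁻¹⁻¹ := by group
        rw [e]
        exact hM _ (N.inv_mem hb) _ (M.inv_mem hb') }
  have hle : (⨆ i : S, X i.1 : Subgroup G) ≤ K := iSup_le fun i b hb => ⟨hXN i i.2 hb, h i i.2 b hb⟩
  exact (hle hb).2

section abs

variable {W Y : Type*} [Group W] [Group Y] {cs : CoxeterSystem CoxeterMatrix.F₄ W} {p : ℕ} {T : Subgroup Y}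
  {n : Fin 4 → Y} {X : (Fin 4 → ℤ) → Subgroup Y}

theorem NotJ_eq : NotJ cs isCartan j4 = Q (fun x => 1 ≤ x 3) := by
  ext x
  constructor
  · rintro ⟨hx, -, k, hk, hk0⟩
    have : k = 3 := by
      by_contra h; exact hk h
    subst this
    exact ⟨(mem_rts cs).1 hx, hk0⟩
  · rintro ⟨hx, h0⟩
    refine ⟨(mem_rts cs).2 hx, ?_, 3, fun h => h rfl, h0⟩
    have h1 : ∀ x ∈ rts, 1 ≤ x 3 → ∀ k, 0 ≤ x k := by decide +kernel
    exact fun k => h1 x hx h0 k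

theorem RootsJ_eq : RootsJ cs isCartan j4 = Q (fun x => x 3 = 0) := by
  ext x
  constructor
  · rintro ⟨hx, h1⟩
    exact ⟨(mem_rts cs).1 hx, h1 3 (fun h => h rfl)⟩
  · rintro ⟨hx, h0⟩
    refine ⟨(mem_rts cs).2 hx, fun k hk => ?_⟩
    have : k = 3 := by
      by_contra h; exact hk h
    subst this
    exact h0

theorem bf_b0 (x : Fin 4 → ℤ) : bf x b0 = x 3 := by
  unfold bf b0
  simp
  ring

theorem Q_two : Q (fun x => x 3 = 2) = S2 cs := by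
  ext x
  constructor
  · rintro ⟨hx, h⟩
    exact ⟨(mem_rts cs).2 hx, by rw [bf_b0]; exact h⟩
  · rintro ⟨hx, h⟩
    exact ⟨(mem_rts cs).1 hx, by rw [bf_b0] at h; exact h⟩

end abs

section dat

variable {W Y : Type*} [Group W] [Group Y] {cs : CoxeterSystem CoxeterMatrix.F₄ W} {T : Subgroup Y}
  {n : Fin 4 → Y} {X : (Fin 4 → ℤ) → Subgroup Y} {R : RGD cs isCartan 2 T n X} (D : Dat R)

theorem z_abs : ∀ a ∈ rts, a 3 = 0 → ∀ z ∈ rts, z 3 = 2 →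
    (bf z z = 4 ∧ 0 ≤ bf a z) ∨ (bf a a = 4 ∧ 0 ≤ bf z a) ∨
    (bf a a = 2 ∧ bf z z = 2 ∧ bf a z = 0) ∨ (a ≠ z ∧ a ≠ -z ∧ ∀ w ∈ rts, bt a z w → w 3 = 2) := by
  decide +kernel

theorem add_abs : ∀ a ∈ rts, a 3 = 0 → ∀ z ∈ rts, z 3 = 2 → bf a a = 2 → bf z z = 2 → bf a z = 0 → a + z ∈ rts := by
  decide +kernel

include D

/-- `[X a, X z] ≤ V2`, `a` of level 0, `z` of level 2 -/
theorem comm_zero {a z : Fin 4 → ℤ} (ha : a ∈ rts) (ha0 : a 3 = 0) (hz : z ∈ rts) (hz2 : z 3 = 2) {u v : Y}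
    (hu : u ∈ X a) (hv : v ∈ X z) : ⁅u, v⁆ ∈ RGD.Sup X (S2 cs) := by
  rcases z_abs a ha ha0 z hz hz2 with ⟨h1, h2⟩ | ⟨h1, h2⟩ | ⟨h1, h2, h3⟩ | ⟨h1, h2, h3⟩
  · rw [commutatorElement_eq_one_iff_mul_comm.2
      (comm_long D ((mem_rts cs).2 ha) ((mem_rts cs).2 hz) h1 h2 hu hv)]
    exact one_mem _
  · rw [commutatorElement_eq_one_iff_mul_comm.2
      (comm_long D ((mem_rts cs).2 hz) ((mem_rts cs).2 ha) h1 h2 hv hu).symm]
    exact one_mem _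
  · have h4 := orth_mem R ((mem_rts cs).2 ha) ((mem_rts cs).2 hz) h1 h2 h3 hu hv
    refine RGD.le_Sup (X := X) (S := S2 cs) (z := a + z) ?_ h4
    refine ⟨(mem_rts cs).2 (add_abs a ha ha0 z hz hz2 h1 h2 h3), ?_⟩
    rw [bf_b0]
    show a 3 + z 3 = 2
    omega
  · have h4 := R.comm a z ((mem_rts cs).2 ha) ((mem_rts cs).2 hz) h1 h2 u hu v hv
    refine R.btw_le_Sup (fun w hw => ?_) h4
    obtain ⟨h5, h6⟩ := btwn_spec cs ((mem_rts cs).2 ha) ((mem_rts cs).2 hz) h1 h2 hw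
    exact ⟨(mem_rts cs).2 h5, by rw [bf_b0]; exact h3 w h5 h6⟩

/-- `P₄` normalises the layer -/
theorem norm2 {g : Y} (hg : g ∈ PJ cs isCartan T X j4) {d : Y} (hd : d ∈ RGD.Sup X (S2 cs)) :
    g * d * g⁻¹ ∈ RGD.Sup X (S2 cs) := by
  have key : ∀ a ∈ rts, 0 ≤ a 3 → X a ≤ Subgroup.normalizer (RGD.Sup X (S2 cs) : Set Y) := by
    intro a ha ha0 u hu
    rw [Subgroup.mem_normalizer_iff]
    have h1 : ∀ u ∈ X a, ∀ d ∈ RGD.Sup X (S2 cs), u * d * u⁻¹ ∈ RGD.Sup X (S2 cs) := by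
      intro u hu
      refine conj_mem_of_comm fun z hz v hv => ?_
      have hz3 : z 3 = 2 := by rw [← bf_b0 z]; exact hz.2
      rcases ha0.eq_or_lt with h | h
      · exact comm_zero D ha h.symm ((mem_rts cs).1 hz.1) hz3 hu hv
      · rw [commutatorElement_eq_one_iff_mul_comm.2
          (comm_S2 D hz ((mem_rts cs).2 ha) (by rw [bf_b0]; exact h) hv hu).symm]
        exact one_mem _
    intro d
    refine ⟨h1 u hu d, fun h => ?_⟩
    have := h1 u⁻¹ (inv_mem hu) _ h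
    have e : u⁻¹ * (u * d * u⁻¹) * u⁻¹⁻¹ = d := by group
    rwa [e] at this
  have h1 : PJ cs isCartan T X j4 ≤ Subgroup.normalizer (RGD.Sup X (S2 cs) : Set Y) := by
    refine sup_le (sup_le ?_ ?_) ?_
    · exact R.T_le_normalizer fun x hx => hx.1
    · rw [RootsJ_eq]
      exact RGD.Sup_le fun x hx => key x hx.1 (le_of_eq hx.2.symm)
    · unfold VJ
      rw [NotJ_eq]
      exact RGD.Sup_le fun x hx => key x hx.1 (by have := hx.2; omega)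
  exact (Subgroup.mem_normalizer_iff.1 (h1 hg) d).1 hd

theorem cen2 {a : Y} (ha : a ∈ VJ cs isCartan X j4) {d : Y} (hd : d ∈ RGD.Sup X (S2 cs)) : a * d = d * a := by
  have h1 : VJ cs isCartan X j4 ≤ Subgroup.centralizer {d} := by
    unfold VJ
    rw [NotJ_eq]
    refine RGD.Sup_le fun x hx u hu => ?_
    rw [Subgroup.mem_centralizer_singleton_iff]
    exact (comm_Sup_S2 D (le_refl _) ((mem_rts cs).2 hx.1) (by rw [bf_b0]; have := hx.2; omega) hd hu).symm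
  exact Subgroup.mem_centralizer_singleton_iff.1 (h1 ha)

theorem lev_cases : ∀ x ∈ rts, 1 ≤ x 3 → x 3 = 1 ∨ x 3 = 2 := by decide +kernel

theorem com2 {a b : Y} (ha : a ∈ VJ cs isCartan X j4) (hb : b ∈ VJ cs isCartan X j4) :
    a * b * a⁻¹ * b⁻¹ ∈ RGD.Sup X (S2 cs) := by
  have hroot : ∀ x ∈ rts, 1 ≤ x 3 → ∀ y ∈ rts, 1 ≤ y 3 → ∀ u ∈ X x, ∀ v ∈ X y,
      u * v * u⁻¹ * v⁻¹ ∈ RGD.Sup X (S2 cs) := by
    intro x hx hx1 y hy hy1 u hu v hv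
    rw [← commutatorElement_def]
    rcases lev_cases D x hx hx1 with h | h
    · rcases lev_cases D y hy hy1 with h' | h'
      · rcases comm_S1 D (b := x) (y := y) ⟨(mem_rts cs).2 hx, by rw [bf_b0]; exact h⟩
          ⟨(mem_rts cs).2 hy, by rw [bf_b0]; exact h'⟩ hu hv with h2 | ⟨h2, h3⟩
        · rw [commutatorElement_eq_one_iff_mul_comm.2 h2]; exact one_mem _
        · exact RGD.le_Sup (X := X) h2 h3
      · rw [commutatorElement_eq_one_iff_mul_comm.2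
          (comm_S2 D (z := y) ⟨(mem_rts cs).2 hy, by rw [bf_b0]; exact h'⟩ ((mem_rts cs).2 hx)
            (by rw [bf_b0]; omega) hv hu).symm]
        exact one_mem _
    · rw [commutatorElement_eq_one_iff_mul_comm.2
        (comm_S2 D (z := x) ⟨(mem_rts cs).2 hx, by rw [bf_b0]; exact h⟩ ((mem_rts cs).2 hy)
          (by rw [bf_b0]; omega) hu hv)]
      exact one_mem _
  have hn : ∀ n ∈ VJ cs isCartan X j4, ∀ m ∈ RGD.Sup X (S2 cs), n * m * n⁻¹ ∈ RGD.Sup X (S2 cs) :=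
    fun n hn m hm => norm2 D (VJ_le_PJ hn) hm
  have hXV : ∀ i ∈ NotJ cs isCartan j4, X i ≤ VJ cs isCartan X j4 := fun i hi => RGD.le_Sup hi
  have step : ∀ x ∈ NotJ cs isCartan j4, ∀ u ∈ X x, u * b * u⁻¹ * b⁻¹ ∈ RGD.Sup X (S2 cs) := by
    intro x hx u hu
    refine comm_sup (S := NotJ cs isCartan j4) (X := X) hn hXV ?_ hb
    intro y hy v hv
    rw [NotJ_eq] at hx hy
    exact hroot x hx.1 hx.2 y hy.1 hy.2 u hu v hv
  have h2 : b * a * b⁻¹ * a⁻¹ ∈ RGD.Sup X (S2 cs) := by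
    refine comm_sup (S := NotJ cs isCartan j4) (X := X) hn hXV ?_ ha
    intro y hy v hv
    have h3 := inv_mem (step y hy v hv)
    have e : (v * b * v⁻¹ * b⁻¹)⁻¹ = b * v * b⁻¹ * v⁻¹ := by group
    rwa [e] at h3
  have h3 := inv_mem h2
  have e : (b * a * b⁻¹ * a⁻¹)⁻¹ = a * b * a⁻¹ * b⁻¹ := by group
  rwa [e] at h3

end dat

end Cfsg.Agent.H590.F4.Lay

namespace Cfsg.Agent.H590.F4.Lay

open CoxeterSystem Cfsg.Agent.ChevalleyStructure.CoxeterGeom Cfsg.Agent.Tits.Roots Cfsg.Agent.Tits.Core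
  Cfsg.Agent.Tits.RootComb Cfsg.Agent.Nodes.Reps Cfsg.Agent.Nodes.BNOf Cfsg.Agent.Nodes.Coroot
  Cfsg.Agent.Nodes.StabComb Cfsg.Agent.Nodes.Bruhat Cfsg.Agent.Nodes.OppDec Cfsg.Agent.Nodes.LeviDec
  Cfsg.Agent.KFacts.RgdSL Cfsg.Agent.KFacts.RgdTI Cfsg.Agent.Nodes.RGDTwE6 Cfsg.Agent.KFacts.TwESix.Comb Cfsg.Agent.KFacts.TwESix.Btw
open Cfsg.Agent.KFacts.TwESix.CentOrth Cfsg.Agent.KFacts.TwESix.Facts
open Cfsg.Agent.Nodes.Unique Cfsg.Agent.Nodes.CardSup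
open Cfsg.Agent.H326.QS.VP (Q)
open Cfsg.Agent.H231.QF (KK j4)
open Cfsg.Lie Subgroup
open scoped commutatorElement

universe u

section card

variable {W Y : Type*} [Group W] [Group Y] {cs : CoxeterSystem CoxeterMatrix.F₄ W} {T : Subgroup Y}
  {n : Fin 4 → Y} {X : (Fin 4 → ℤ) → Subgroup Y} (R : RGD cs isCartan 2 T n X)

/-- the roots of level 1 -/
def l1 : Finset (Fin 4 → ℤ) := (rts.filter fun x => x 3 = 1).toFinset

/-- the roots of level 2 -/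
def l2 : Finset (Fin 4 → ℤ) := (rts.filter fun x => x 3 = 2).toFinset

theorem mem_l1 {x : Fin 4 → ℤ} : x ∈ l1 ↔ x ∈ rts ∧ x 3 = 1 := by
  rw [l1, List.mem_toFinset, List.mem_filter, decide_eq_true_iff]

theorem mem_l2 {x : Fin 4 → ℤ} : x ∈ l2 ↔ x ∈ rts ∧ x 3 = 2 := by
  rw [l2, List.mem_toFinset, List.mem_filter, decide_eq_true_iff]

theorem card_l1 : l1.card = 8 := by decide +kernel

theorem short_l1 : ∀ x ∈ rts, x 3 = 1 → bf x x = 2 := by decide +kernel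

theorem pos_lev : ∀ x ∈ rts, 1 ≤ x 3 → ∀ k, 0 ≤ x k := by decide +kernel

theorem lev' : ∀ x ∈ rts, 1 ≤ x 3 → x 3 = 1 ∨ x 3 = 2 := by decide +kernel

include R

theorem relIndex_layer [Finite Y] (h4 : Nat.card (X (sr 3)) = 4) :
    (RGD.Sup X (S2 cs)).relIndex (VJ cs isCartan X j4) = 2 ^ 16 := by
  classical
  have : Finite W := finiteW cs
  have : Fact (Nat.Prime 2) := ⟨Nat.prime_two⟩
  have e2 : (l2 : Set (Fin 4 → ℤ)) = S2 cs := by
    rw [← Q_two (cs := cs)]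
    ext x
    rw [Finset.mem_coe, mem_l2]
    exact Iff.rfl
  have e12 : ((l1 ∪ l2 : Finset (Fin 4 → ℤ)) : Set (Fin 4 → ℤ)) = NotJ cs isCartan j4 := by
    rw [NotJ_eq]
    ext x
    rw [Finset.mem_coe, Finset.mem_union, mem_l1, mem_l2]
    constructor
    · rintro (⟨h, h'⟩ | ⟨h, h'⟩)
      · exact ⟨h, by show 1 ≤ x 3; omega⟩
      · exact ⟨h, by show 1 ≤ x 3; omega⟩
    · rintro ⟨h, h'⟩
      rcases lev' x h h' with h1 | h1
      · exact Or.inl ⟨h, h1⟩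
      · exact Or.inr ⟨h, h1⟩
  have hdis : Disjoint l1 l2 := by
    rw [Finset.disjoint_left]
    intro x h1 h2
    rw [mem_l1] at h1
    rw [mem_l2] at h2
    omega
  have c2 : Nat.card (RGD.Sup X (S2 cs)) = ∏ x ∈ l2, Nat.card (X x) := by
    rw [← e2]
    exact card_sup R (by rw [e2]; exact fun x hx => ⟨hx.1, fun k =>
      pos_lev x ((mem_rts cs).1 hx.1) (by have := hx.2; rw [bf_b0] at this; omega) k⟩) (by rw [e2]; exact closed_S2)
  have c12 : Nat.card (VJ cs isCartan X j4) = ∏ x ∈ l1 ∪ l2, Nat.card (X x) := by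
    unfold VJ
    rw [← e12]
    exact card_sup R (by rw [e12]; exact fun x hx => ⟨hx.1, hx.2.1⟩)
      (by rw [e12]; exact Cfsg.Agent.H62.PPIdx.closed_NotJ _)
  have c1 : ∏ x ∈ l1, Nat.card (X x) = 4 ^ 8 := by
    rw [← card_l1, ← Finset.prod_const]
    refine Finset.prod_congr rfl fun x hx => ?_
    rw [mem_l1] at hx
    obtain ⟨w, hw⟩ := exists_rep_short cs ((mem_rts cs).2 hx.1) (short_l1 x hx.1 hx.2)
    rw [← h4, ← hw]
    exact card_X_rep R w ((mem_rts cs).2 (by decide +kernel))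
  have hle : RGD.Sup X (S2 cs) ≤ VJ cs isCartan X j4 := by
    unfold VJ
    rw [NotJ_eq]
    exact RGD.Sup_mono fun x hx => ⟨(mem_rts cs).1 hx.1, by
      have := hx.2; rw [bf_b0] at this; show 1 ≤ x 3; omega⟩
  have h5 : (RGD.Sup X (S2 cs)).relIndex (VJ cs isCartan X j4) * Nat.card (RGD.Sup X (S2 cs))
      = Nat.card (VJ cs isCartan X j4) := by
    rw [Subgroup.relIndex, mul_comm, ← Nat.card_congr (Subgroup.subgroupOfEquivOfLe hle).toEquiv]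
    exact Subgroup.card_mul_index _
  rw [c12, Finset.prod_union hdis, c1, ← c2] at h5
  have h6 : 0 < Nat.card (RGD.Sup X (S2 cs)) := Nat.card_pos
  have h7 := Nat.eq_of_mul_eq_mul_right h6 h5
  rw [h7]; norm_num

end card

section final

open Cfsg.Agent.H231.QF (V P Lv)
open Cfsg.Agent.H164.F4.OutV (charTwo hqq)
open Cfsg.Agent.Nodes.RGDFoldSL (Fx)

variable {F : Type u} [Field F] [Fintype F] (hF : Fintype.card F = 4) {φ : F →+* F} (hφ : ∀ t, φ t = t ^ 2)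

include hF hφ

theorem card_X3 : Nat.card ↥(Cfsg.Agent.H231.QF.X φ (sr 3)) = 4 := by
  show Nat.card ↥(Cfsg.Agent.Nodes.RGDTwE6.X φ 2 (sr 3)) = 4
  rw [Cfsg.Agent.KFacts.TwESix.OutTwo.card_of_coord (Cfsg.Agent.KFacts.TwESix.Out.coordE hφ (hqq hF) 3)]
  have h1 : (Fx φ 2 : Subfield F) = ⊤ := Cfsg.Agent.KFacts.TwESix.Out.F2_eq_top hφ (hqq hF)
  have h2 : Nat.card (Cfsg.Agent.KFacts.TwESix.Out.KF φ 3) = Nat.card F := by
    show Nat.card ↥(Fx φ 2) = _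
    rw [h1]
    exact Nat.card_congr Subfield.topEquiv.toEquiv
  rw [h2, Nat.card_eq_fintype_card, hF]

/-- **the layer** -/
theorem layer : V2 φ ≤ V φ j4 ∧ (∀ g ∈ P φ j4, ∀ d ∈ V2 φ, g * d * g⁻¹ ∈ V2 φ) ∧
    (∀ a ∈ V φ j4, ∀ d ∈ V2 φ, a * d = d * a) ∧ (∀ a ∈ V φ j4, ∀ b ∈ V φ j4, a * b * a⁻¹ * b⁻¹ ∈ V2 φ) ∧
    (V2 φ).relIndex (V φ j4) = 2 ^ 16 := by
  have : CharP F 2 := charTwo hF
  have : Finite (KK F) := inferInstance
  have D := Cfsg.Agent.KFacts.TwESix.Dat.dat Cfsg.Agent.H231.QF.cs hφ (hqq hF) (by rw [hF]; norm_num) (by norm_num)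
  have e : V2 φ = RGD.Sup (Cfsg.Agent.H231.QF.X φ) (S2 Cfsg.Agent.H231.QF.cs) := by
    unfold V2
    rw [Q_two (cs := Cfsg.Agent.H231.QF.cs)]
  refine ⟨?_, ?_, ?_, ?_, ?_⟩
  · show V2 φ ≤ VJ Cfsg.Agent.H231.QF.cs isCartan (Cfsg.Agent.H231.QF.X φ) j4
    unfold VJ V2
    rw [NotJ_eq]
    exact RGD.Sup_mono fun x hx => ⟨hx.1, by have := hx.2; show 1 ≤ x 3; omega⟩
  · rw [e]
    exact fun g hg d hd => norm2 D hg hd
  · rw [e]
    exact fun a ha d hd => cen2 D ha hd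
  · rw [e]
    exact fun a ha b hb => com2 D ha hb
  · rw [e]
    exact relIndex_layer (rgd Cfsg.Agent.H231.QF.cs hφ (hqq hF) 2) (card_X3 hF hφ)

/-- the Levi decomposition and the normality of the radical -/
theorem pdec : (∀ g ∈ P φ j4, ∀ v ∈ V φ j4, g * v * g⁻¹ ∈ V φ j4) ∧
    (∀ g ∈ P φ j4, ∃ l ∈ Lv φ j4, ∃ v ∈ V φ j4, g = l * v) := by
  have : CharP F 2 := charTwo hF
  have : Fact (Nat.Prime 2) := ⟨Nat.prime_two⟩
  have R := rgd Cfsg.Agent.H231.QF.cs hφ (hqq hF) 2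
  constructor
  · intro g hg v hv
    exact (Subgroup.mem_normalizer_iff.1 (PJ_le_normalizer_VJ R j4 hg) v).1 hv
  · intro g hg
    exact (mem_PJ R).1 hg

end final

end Cfsg.Agent.H590.F4.Lay
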