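import Cfsg.Agent.H590.F4.Pair

/-!
# The pair lemma in a group `Γ ⊵ N` with a second normal subgroup `D` (helper590, row F4 of S2491)

`Z ≤ N` central in `Γ`, `D ≤ Z(N)` normal in `Γ`, `Z ∩ D = 1`, `[N, N] ≤ Z D`; `x`, `y` fixed point free
on `N/Z D`, `x` on `D`; the forms `χ ∘ [,]` non-degenerate on `N/ZD`, `(|Z|-1)² |C_{N/ZD}(xy)| < |N/ZD|`.
Then every `c ∈ x y N` is a product of an `N`-conjugate of `x` and an `N`-conjugate of `y`.
-/

set_option autoImplicit false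

namespace Cfsg.Agent.H590.F4

universe u

section quot

variable {N : Type u} [Group N]

theorem mem_map_mk {Z D : Subgroup N} [D.Normal] (a : N) :
    QuotientGroup.mk' D a ∈ Z.map (QuotientGroup.mk' D) ↔ a ∈ Z ⊔ D := by
  rw [← Subgroup.mem_comap, Subgroup.comap_map_eq, QuotientGroup.ker_mk']

/-- the core with a second central subgroup `D` -/
theorem core_D [Finite N] {Z D : Subgroup N} [hDn : D.Normal] {X Y : N ≃* N}
    (cZ : ∀ z ∈ Z, ∀ n, z * n = n * z) (cD : ∀ d ∈ D, ∀ n, d * n = n * d)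
    (fX : ∀ z ∈ Z, X z = z) (fY : ∀ z ∈ Z, Y z = z) (mX : ∀ d ∈ D, X d ∈ D) (mY : ∀ d ∈ D, Y d ∈ D)
    (com : ∀ a b : N, a * b * a⁻¹ * b⁻¹ ∈ Z ⊔ D)
    (inX : ∀ u, u * (X u)⁻¹ ∈ Z ⊔ D → u ∈ Z ⊔ D) (inY : ∀ u, u * (Y u)⁻¹ ∈ Z ⊔ D → u ∈ Z ⊔ D)
    (dX : ∀ d ∈ D, X d = d → d = 1) (hZD : ∀ a ∈ Z, a ∈ D → a = 1)
    (hnd : ∀ K : Subgroup N, K ≤ Z → K ≠ Z → ∀ r : N, (∀ n, r * n * r⁻¹ * n⁻¹ ∈ K ⊔ D) → r ∈ Z ⊔ D)
    (hr : (Nat.card Z - 1) ^ 2 * Nat.card {u : N | X u * (Y u)⁻¹ ∈ Z ⊔ D} < Nat.card N) (m : N) :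
    ∃ u v, u * (X u)⁻¹ * m = v * (Y v)⁻¹ := by
  classical
  let π := QuotientGroup.mk' D
  have hπs : Function.Surjective π := QuotientGroup.mk'_surjective D
  have hπD : ∀ a, π a = 1 ↔ a ∈ D := fun a => QuotientGroup.eq_one_iff a
  have mapX : ∀ W : N ≃* N, (∀ d ∈ D, W d ∈ D) → D.map W.toMonoidHom = D := by
    intro W hW
    have hle : D.map W.toMonoidHom ≤ D := by
      rintro _ ⟨d, hd, rfl⟩
      exact hW d hd
    refine Subgroup.eq_of_le_of_card_ge hle ?_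
    rw [Nat.card_congr (D.equivMapOfInjective W.toMonoidHom W.injective).toEquiv]
  let X' : (N ⧸ D) ≃* (N ⧸ D) := QuotientGroup.congr D D X (mapX X mX)
  let Y' : (N ⧸ D) ≃* (N ⧸ D) := QuotientGroup.congr D D Y (mapX Y mY)
  have hX' : ∀ a, X' (π a) = π (X a) := fun a => rfl
  have hY' : ∀ a, Y' (π a) = π (Y a) := fun a => rfl
  have hmem : ∀ a, π a ∈ Z.map π ↔ a ∈ Z ⊔ D := mem_map_mk
  have fr : Fr (Z.map π) X' Y' := by
    refine ⟨?_, ?_, ?_, ?_, ?_, ?_⟩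
    · rintro _ ⟨z, hz, rfl⟩ n
      obtain ⟨n, rfl⟩ := hπs n
      rw [← map_mul, cZ z hz, map_mul]
    · intro a b
      obtain ⟨a, rfl⟩ := hπs a
      obtain ⟨b, rfl⟩ := hπs b
      have := (hmem _).2 (com a b)
      simpa only [map_mul, map_inv] using this
    · rintro _ ⟨z, hz, rfl⟩
      rw [hX', fX z hz]
    · rintro _ ⟨z, hz, rfl⟩
      rw [hY', fY z hz]
    · intro u hu
      obtain ⟨u, rfl⟩ := hπs u
      rw [hX', ← map_inv, ← map_mul, hmem] at hu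
      exact (hmem _).2 (inX u hu)
    · intro u hu
      obtain ⟨u, rfl⟩ := hπs u
      rw [hY', ← map_inv, ← map_mul, hmem] at hu
      exact (hmem _).2 (inY u hu)
  have hnd' : ∀ K : Subgroup (N ⧸ D), K ≤ Z.map π → K ≠ Z.map π → ∀ r : N ⧸ D,
      (∀ n, r * n * r⁻¹ * n⁻¹ ∈ K) → r ∈ Z.map π := by
    intro K hK hKne r hr
    obtain ⟨r, rfl⟩ := hπs r
    rw [hmem]
    have hKm : (K.comap π ⊓ Z).map π = K := by
      apply le_antisymm
      · rintro _ ⟨a, ha, rfl⟩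
        exact ha.1
      · intro k hk
        obtain ⟨z, hz, rfl⟩ := hK hk
        exact ⟨z, ⟨hk, hz⟩, rfl⟩
    refine hnd (K.comap π ⊓ Z) inf_le_right ?_ r ?_
    · intro e
      apply hKne
      rw [← hKm, e]
    · intro n
      rw [← mem_map_mk]
      show π _ ∈ (K.comap π ⊓ Z).map π
      rw [hKm]
      have := hr (π n)
      simpa only [map_mul, map_inv] using this
  have cZ' : Nat.card (Z.map π) = Nat.card Z := by
    refine (Nat.card_congr (Equiv.ofBijective (fun z : Z => (⟨π z, ⟨z, z.2, rfl⟩⟩ : Z.map π)) ⟨?_, ?_⟩)).symm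
    · intro a b e
      have e1 : π (a : N) = π (b : N) := congrArg Subtype.val e
      have e2 : ((a : N)⁻¹ * b) ∈ D := by
        rw [← hπD, map_mul, map_inv, e1, inv_mul_cancel]
      have e3 := hZD _ (Z.mul_mem (Z.inv_mem a.2) b.2) e2
      exact Subtype.ext (inv_mul_eq_one.1 e3)
    · rintro ⟨_, z, hz, rfl⟩
      exact ⟨⟨z, hz⟩, rfl⟩
  have hr' : (Nat.card (Z.map π) - 1) ^ 2 * Nat.card {u : N ⧸ D | X' u * (Y' u)⁻¹ ∈ Z.map π}
      < Nat.card (N ⧸ D) := by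
    rw [cZ']
    have hN : Nat.card N = Nat.card (N ⧸ D) * Nat.card D := Subgroup.card_eq_card_quotient_mul_card_subgroup D
    have hpre : Nat.card {u : N | X u * (Y u)⁻¹ ∈ Z ⊔ D}
        = Nat.card {u : N ⧸ D | X' u * (Y' u)⁻¹ ∈ Z.map π} * Nat.card D := by
      let S : Set (N ⧸ D) := {u : N ⧸ D | X' u * (Y' u)⁻¹ ∈ Z.map π}
      have e : {u : N | X u * (Y u)⁻¹ ∈ Z ⊔ D} = (QuotientGroup.mk : N → N ⧸ D) ⁻¹' S := by
        ext u
        show X u * (Y u)⁻¹ ∈ Z ⊔ D ↔ X' (π u) * (Y' (π u))⁻¹ ∈ Z.map π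
        rw [hX', hY', ← map_inv π, ← map_mul π, hmem]
      rw [e, Nat.card_congr (QuotientGroup.preimageMkEquivSubgroupProdSet D S), Nat.card_prod, mul_comm]
    rw [hN, hpre, ← mul_assoc] at hr
    exact lt_of_mul_lt_mul_right hr (Nat.zero_le _)
  obtain ⟨u, v, e⟩ := fr.core hnd' hr' (π m)
  obtain ⟨u, rfl⟩ := hπs u
  obtain ⟨v, rfl⟩ := hπs v
  rw [hX', hY', ← map_inv π, ← map_inv π, ← map_mul π, ← map_mul π, ← map_mul π] at e
  -- correct by `D`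
  have hd : (v * (Y v)⁻¹) * (u * (X u)⁻¹ * m)⁻¹ ∈ D := by
    rw [← hπD, map_mul, map_inv, e, mul_inv_cancel]
  let φ : D → D := fun d => ⟨d * (X d)⁻¹, D.mul_mem d.2 (D.inv_mem (mX d d.2))⟩
  have hφ : Function.Injective φ := by
    intro a b hab
    have e1 : (a : N) * (X a)⁻¹ = b * (X b)⁻¹ := congrArg Subtype.val hab
    have e2 : X ((b : N)⁻¹ * a) = (b : N)⁻¹ * a := by
      rw [map_mul, map_inv]
      have e3 : (a : N) = b * (X b)⁻¹ * X a := by rw [← e1]; group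
      conv_rhs => rw [e3]
      group
    have e3 := dX _ (D.mul_mem (D.inv_mem b.2) a.2) e2
    exact (Subtype.ext (inv_mul_eq_one.1 e3)).symm
  obtain ⟨d, hd'⟩ := Finite.surjective_of_injective hφ ⟨_, hd⟩
  have hd'' : (d : N) * (X d)⁻¹ = (v * (Y v)⁻¹) * (u * (X u)⁻¹ * m)⁻¹ := congrArg Subtype.val hd'
  refine ⟨d * u, v, ?_⟩
  have e4 : (d : N) * u * (X (d * u))⁻¹ * m = (d : N) * (X d)⁻¹ * (u * (X u)⁻¹ * m) := by
    have e5 := cD (X d)⁻¹ (D.inv_mem (mX d d.2)) (u * (X u)⁻¹)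
    rw [map_mul, mul_inv_rev]
    calc (d : N) * u * ((X u)⁻¹ * (X d)⁻¹) * m = d * (u * (X u)⁻¹ * (X d)⁻¹) * m := by
          simp only [mul_assoc]
      _ = _ := by rw [← e5]; simp only [mul_assoc]
  rw [e4, hd'']
  group

end quot

section group

variable {Γ : Type u} [Group Γ]

/-- `x` is fixed point free on `N / M` -/
def FF (N M : Subgroup Γ) (x : Γ) : Prop := ∀ u ∈ N, x * u * x⁻¹ * u⁻¹ ∈ M → u ∈ M

theorem FF.conj {N M : Subgroup Γ} (hN : N.Normal) (hM : M.Normal) {x : Γ} (h : FF N M x) (k : Γ) :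
    FF N M (k * x * k⁻¹) := by
  intro u hu hm
  have h1 : k⁻¹ * u * k ∈ M := by
    refine h _ (by simpa using hN.conj_mem u hu k⁻¹) ?_
    have := hM.conj_mem _ hm k⁻¹
    have e : x * (k⁻¹ * u * k) * x⁻¹ * (k⁻¹ * u * k)⁻¹
        = k⁻¹ * (k * x * k⁻¹ * u * (k * x * k⁻¹)⁻¹ * u⁻¹) * k⁻¹⁻¹ := by group
    rw [e]; exact this
  have := hM.conj_mem _ h1 k
  have e : k * (k⁻¹ * u * k) * k⁻¹ = u := by group
  rwa [e] at this

theorem FF.inv {N M : Subgroup Γ} (hN : N.Normal) (hM : M.Normal) {x : Γ} (h : FF N M x) :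
    FF N M x⁻¹ := by
  intro u hu hm
  have h1 : x⁻¹ * u * x ∈ M := by
    refine h _ (by simpa using hN.conj_mem u hu x⁻¹) ?_
    have := M.inv_mem hm
    have e : x * (x⁻¹ * u * x) * x⁻¹ * (x⁻¹ * u * x)⁻¹ = (x⁻¹ * u * x⁻¹⁻¹ * u⁻¹)⁻¹ := by group
    rw [e]; exact this
  have := hM.conj_mem _ h1 x
  have e : x * (x⁻¹ * u * x) * x⁻¹ = u := by group
  rwa [e] at this

theorem FF.mul_mem {N M : Subgroup Γ} (hM : M.Normal)
    (com : ∀ a ∈ N, ∀ b ∈ N, a * b * a⁻¹ * b⁻¹ ∈ M) {x n : Γ} (hn : n ∈ N) (h : FF N M x) :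
    FF N M (x * n) := by
  intro u hu hm
  refine h u hu ?_
  have e : x * u * x⁻¹ * u⁻¹ = (x * (n * u * n⁻¹ * u⁻¹) * x⁻¹)⁻¹ * ((x * n) * u * (x * n)⁻¹ * u⁻¹) := by
    group
  rw [e]
  exact M.mul_mem (M.inv_mem (hM.conj_mem _ (com n hn u hu) x)) hm

theorem FF.mul_central {N M : Subgroup Γ} {x z : Γ} (hz : ∀ g : Γ, z * g = g * z) (h : FF N M x) :
    FF N M (x * z) := by
  intro u hu hm
  refine h u hu ?_
  have e : (x * z) * u * (x * z)⁻¹ * u⁻¹ = x * u * x⁻¹ * u⁻¹ := by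
    have e1 : (x * z) * u * (x * z)⁻¹ * u⁻¹ = x * (z * u) * z⁻¹ * x⁻¹ * u⁻¹ := by group
    rw [e1, hz u]; group
  rwa [e] at hm

/-- **the pair lemma** -/
theorem exists_pair {N Z D : Subgroup Γ} [Finite N] (hN : N.Normal) (hD : D.Normal) (hZN : Z ≤ N)
    (hDN : D ≤ N) (hZ : ∀ z ∈ Z, ∀ g, z * g = g * z) (hDc : ∀ d ∈ D, ∀ n ∈ N, d * n = n * d)
    (hZD : ∀ a ∈ Z, a ∈ D → a = 1) (com : ∀ a ∈ N, ∀ b ∈ N, a * b * a⁻¹ * b⁻¹ ∈ Z ⊔ D)
    {x y : Γ} (hx : FF N (Z ⊔ D) x) (hxD : ∀ d ∈ D, x * d = d * x → d = 1) (hy : FF N (Z ⊔ D) y)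
    (hnd : ∀ K : Subgroup Γ, K ≤ Z → K ≠ Z → ∀ r ∈ N, (∀ n ∈ N, r * n * r⁻¹ * n⁻¹ ∈ K ⊔ D) → r ∈ Z ⊔ D)
    (hr : (Nat.card Z - 1) ^ 2 * Nat.card {u : Γ | u ∈ N ∧ x * y * u * (x * y)⁻¹ * u⁻¹ ∈ Z ⊔ D}
      < Nat.card N) {c : Γ} (hc : x⁻¹ * c * y⁻¹ ∈ N) :
    ∃ u ∈ N, ∃ v ∈ N, c = (u * x * u⁻¹) * (v * y * v⁻¹) := by
  classical
  have hZn : Z.Normal := ⟨fun z hz g => by
    rw [← hZ z hz g, mul_assoc, mul_inv_cancel, mul_one]; exact hz⟩
  have hMn : (Z ⊔ D).Normal := Subgroup.sup_normal Z D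
  let X : N ≃* N := MulAut.conjNormal x⁻¹
  let Y : N ≃* N := MulAut.conjNormal y
  have hX : ∀ n : N, ((X n : N) : Γ) = x⁻¹ * n * x := fun n => by
    rw [MulAut.conjNormal_apply, inv_inv]
  have hY : ∀ n : N, ((Y n : N) : Γ) = y * n * y⁻¹ := fun n => MulAut.conjNormal_apply y n
  have hsup : Z.subgroupOf N ⊔ D.subgroupOf N = (Z ⊔ D).subgroupOf N :=
    (Subgroup.subgroupOf_sup hZN hDN).symm
  have hmem : ∀ n : N, n ∈ Z.subgroupOf N ⊔ D.subgroupOf N ↔ (n : Γ) ∈ Z ⊔ D := by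
    intro n; rw [hsup, Subgroup.mem_subgroupOf]
  have hxi := hx.inv hN hMn
  obtain ⟨u, v, e⟩ := core_D (N := N) (Z := Z.subgroupOf N) (D := D.subgroupOf N) (X := X) (Y := Y)
    (fun z hz n => Subtype.ext (hZ z hz n)) (fun d hd n => Subtype.ext (hDc d hd n n.2))
    (fun z hz => Subtype.ext (by
      rw [hX, mul_assoc, hZ z hz x]; group))
    (fun z hz => Subtype.ext (by
      rw [hY, ← hZ z hz y]; group))
    (fun d hd => by
      rw [Subgroup.mem_subgroupOf, hX]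
      simpa using hD.conj_mem _ hd x⁻¹)
    (fun d hd => by
      rw [Subgroup.mem_subgroupOf, hY]
      exact hD.conj_mem _ hd y)
    (fun a b => by rw [hmem]; exact com a a.2 b b.2)
    (fun w hw => by
      rw [hmem] at hw ⊢
      refine hxi w w.2 ?_
      have := (Z ⊔ D).inv_mem hw
      have e : x⁻¹ * (w : Γ) * x⁻¹⁻¹ * (w : Γ)⁻¹ = (((w * (X w)⁻¹ : N) : Γ))⁻¹ := by
        rw [Subgroup.coe_mul, Subgroup.coe_inv, hX]; group
      rw [e]; exact this)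
    (fun w hw => by
      rw [hmem] at hw ⊢
      refine hy w w.2 ?_
      have := (Z ⊔ D).inv_mem hw
      have e : y * (w : Γ) * y⁻¹ * (w : Γ)⁻¹ = (((w * (Y w)⁻¹ : N) : Γ))⁻¹ := by
        rw [Subgroup.coe_mul, Subgroup.coe_inv, hY]; group
      rw [e]; exact this)
    (fun d hd e => by
      have e1 : x⁻¹ * (d : Γ) * x = d := by rw [← hX, e]
      refine Subtype.ext (hxD d hd ?_)
      conv_lhs => rw [← e1]
      group)
    (fun a ha hb => Subtype.ext (hZD a ha hb))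
    (fun K hK hne r hr => by
      rw [hmem]
      refine hnd (K.map N.subtype) ?_ ?_ r r.2 ?_
      · rintro _ ⟨k, hk, rfl⟩
        exact hK hk
      · intro e
        apply hne
        apply le_antisymm hK
        intro z hz
        have : (z : Γ) ∈ K.map N.subtype := by rw [e]; exact hz
        obtain ⟨k, hk, e'⟩ := this
        have : k = z := Subtype.ext e'
        rwa [← this]
      · intro n hn
        have hle : K ⊔ D.subgroupOf N ≤ (K.map N.subtype ⊔ D).comap N.subtype := by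
          refine sup_le ?_ ?_
          · intro k hk
            exact Subgroup.mem_sup_left ⟨k, hk, rfl⟩
          · intro k hk
            exact Subgroup.mem_sup_right hk
        exact hle (hr ⟨n, hn⟩))
    (by
      have e1 : Nat.card (Z.subgroupOf N) = Nat.card Z :=
        Nat.card_congr (Subgroup.subgroupOfEquivOfLe hZN).toEquiv
      rw [e1]
      refine lt_of_le_of_lt (Nat.mul_le_mul_left _ ?_) hr
      have hfin : Finite {u : Γ | u ∈ N ∧ x * y * u * (x * y)⁻¹ * u⁻¹ ∈ Z ⊔ D} :=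
        Finite.of_injective (fun u => (⟨u, u.2.1⟩ : N)) (fun a b h =>
          Subtype.ext (congrArg (fun t : N => (t : Γ)) h))
      refine Nat.card_le_card_of_injective
        (fun u : {u : N | X u * (Y u)⁻¹ ∈ Z.subgroupOf N ⊔ D.subgroupOf N} =>
          (⟨((u : N) : Γ), ⟨(u : N).2, ?_⟩⟩ :
            {u : Γ | u ∈ N ∧ x * y * u * (x * y)⁻¹ * u⁻¹ ∈ Z ⊔ D})) ?_
      · have h1 := u.2
        rw [Set.mem_ofPred_eq, hmem, Subgroup.coe_mul, Subgroup.coe_inv, hX, hY] at h1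
        have h2 := (Z ⊔ D).inv_mem (hMn.conj_mem _ h1 x)
        have e : x * y * ((u : N) : Γ) * (x * y)⁻¹ * ((u : N) : Γ)⁻¹
            = (x * (x⁻¹ * ((u : N) : Γ) * x * (y * ((u : N) : Γ) * y⁻¹)⁻¹) * x⁻¹)⁻¹ := by group
        rw [e]; exact h2
      · intro a b h
        simp only [Subtype.mk.injEq] at h
        exact Subtype.ext (Subtype.ext h))
    ⟨_, hc⟩
  have e1 := congrArg (fun t : N => (t : Γ)) e
  simp only [Subgroup.coe_mul, Subgroup.coe_inv, hX, hY] at e1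
  refine ⟨u, u.2, v, v.2, ?_⟩
  have e2 : c = (u : Γ) * x * (u : Γ)⁻¹ * ((u : Γ) * (x⁻¹ * (u : Γ) * x)⁻¹ * (x⁻¹ * c * y⁻¹)) * y := by
    group
  rw [e2, e1]
  group

/-- non-degeneracy from irreducibility and one non-trivial commutator for every proper `K < Z` -/
theorem nd_of_irr {N Z D : Subgroup Γ} (hN : N.Normal) (hD : D.Normal) (hZN : Z ≤ N) (hDN : D ≤ N)
    (hZ : ∀ z ∈ Z, ∀ g, z * g = g * z) (hDc : ∀ d ∈ D, ∀ n ∈ N, d * n = n * d)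
    (irr : ∀ M : Subgroup Γ, M.Normal → Z ⊔ D ≤ M → M ≤ N → M = Z ⊔ D ∨ M = N)
    (hpair : ∀ K : Subgroup Γ, K ≤ Z → K ≠ Z → ∃ a ∈ N, ∃ b ∈ N, a * b * a⁻¹ * b⁻¹ ∉ K ⊔ D)
    (K : Subgroup Γ) (hK : K ≤ Z) (hne : K ≠ Z) (r : Γ) (hr : r ∈ N)
    (h : ∀ n ∈ N, r * n * r⁻¹ * n⁻¹ ∈ K ⊔ D) : r ∈ Z ⊔ D := by
  have hKn : K.Normal := ⟨fun z hz g => by
    rw [← hZ z (hK hz) g, mul_assoc, mul_inv_cancel, mul_one]; exact hz⟩
  have hS : (K ⊔ D).Normal := Subgroup.sup_normal K D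
  let M : Subgroup Γ :=
    { carrier := {r | r ∈ N ∧ ∀ n ∈ N, r * n * r⁻¹ * n⁻¹ ∈ K ⊔ D}
      one_mem' := ⟨N.one_mem, fun n _ => by simp⟩
      mul_mem' := by
        rintro a b ⟨ha, ha'⟩ ⟨hb, hb'⟩
        refine ⟨N.mul_mem ha hb, fun n hn => ?_⟩
        have e : a * b * n * (a * b)⁻¹ * n⁻¹ = a * (b * n * b⁻¹ * n⁻¹) * a⁻¹ * (a * n * a⁻¹ * n⁻¹) := by
          group
        rw [e]
        exact (K ⊔ D).mul_mem (hS.conj_mem _ (hb' n hn) a) (ha' n hn)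
      inv_mem' := by
        rintro a ⟨ha, ha'⟩
        refine ⟨N.inv_mem ha, fun n hn => ?_⟩
        have e : a⁻¹ * n * a⁻¹⁻¹ * n⁻¹ = a⁻¹ * (a * n * a⁻¹ * n⁻¹)⁻¹ * a⁻¹⁻¹ := by group
        rw [e]
        exact hS.conj_mem _ ((K ⊔ D).inv_mem (ha' n hn)) a⁻¹ }
  have hMn : M.Normal := by
    refine ⟨?_⟩
    rintro a ⟨ha, ha'⟩ g
    refine ⟨hN.conj_mem a ha g, fun n hn => ?_⟩
    have e : g * a * g⁻¹ * n * (g * a * g⁻¹)⁻¹ * n⁻¹
        = g * (a * (g⁻¹ * n * g) * a⁻¹ * (g⁻¹ * n * g)⁻¹) * g⁻¹ := by group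
    rw [e]
    exact hS.conj_mem _ (ha' _ (by simpa using hN.conj_mem n hn g⁻¹)) g
  have hMN : M ≤ N := fun a ha => ha.1
  have hZM : Z ⊔ D ≤ M := by
    refine sup_le ?_ ?_
    · intro z hz
      refine ⟨hZN hz, fun n _ => ?_⟩
      rw [hZ z hz n]; simp
    · intro d hd
      refine ⟨hDN hd, fun n hn => ?_⟩
      rw [hDc d hd n hn]; simp
  rcases irr M hMn hZM hMN with e | e
  · rw [← e]; exact ⟨hr, h⟩
  · obtain ⟨a, ha, b, hb, hab⟩ := hpair K hK hne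
    rw [← e] at ha
    exact absurd (ha.2 b hb) hab

/-- two commutators generating `Z` modulo `D` are enough -/
theorem pair_of_two {N Z D : Subgroup Γ} (hD : D.Normal)
    (hZD : ∀ a ∈ Z, a ∈ D → a = 1) {z₁ z₂ : Γ}
    (h1 : z₁ ∈ Z) (h2 : z₂ ∈ Z) (hgen : ∀ K : Subgroup Γ, z₁ ∈ K → z₂ ∈ K → Z ≤ K)
    {a₁ b₁ a₂ b₂ : Γ} (ha₁ : a₁ ∈ N) (hb₁ : b₁ ∈ N) (ha₂ : a₂ ∈ N) (hb₂ : b₂ ∈ N)
    (e₁ : z₁⁻¹ * (a₁ * b₁ * a₁⁻¹ * b₁⁻¹) ∈ D) (e₂ : z₂⁻¹ * (a₂ * b₂ * a₂⁻¹ * b₂⁻¹) ∈ D)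
    (K : Subgroup Γ) (hK : K ≤ Z) (hne : K ≠ Z) : ∃ a ∈ N, ∃ b ∈ N, a * b * a⁻¹ * b⁻¹ ∉ K ⊔ D := by
  have key : ∀ z ∈ Z, ∀ w : Γ, z⁻¹ * w ∈ D → w ∈ K ⊔ D → z ∈ K := by
    intro z hz w hw hwK
    have h3 : z ∈ K ⊔ D := by
      have e : z = w * (z⁻¹ * w)⁻¹ := by group
      rw [e]; exact (K ⊔ D).mul_mem hwK ((K ⊔ D).inv_mem (Subgroup.mem_sup_right hw))
    have h4 : z ∈ ((K ⊔ D : Subgroup Γ) : Set Γ) := h3
    rw [Subgroup.mul_normal] at h4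
    obtain ⟨k, hk, d, hd, e⟩ := h4
    have e' : k * d = z := e
    have h5 : d = 1 := by
      refine hZD d ?_ hd
      have : d = k⁻¹ * z := by rw [← e']; group
      rw [this]; exact Z.mul_mem (Z.inv_mem (hK hk)) hz
    rw [h5, mul_one] at e'
    rwa [← e']
  by_contra hcon
  push Not at hcon
  apply hne
  exact le_antisymm hK (hgen K (key z₁ h1 _ e₁ (hcon a₁ ha₁ b₁ hb₁)) (key z₂ h2 _ e₂ (hcon a₂ ha₂ b₂ hb₂)))

/-- the centraliser of `l` in `N / M` -/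
def CM {N M : Subgroup Γ} (hN : N.Normal) (hM : M.Normal) (com : ∀ a ∈ N, ∀ b ∈ N, a * b * a⁻¹ * b⁻¹ ∈ M)
    (l : Γ) : Subgroup Γ where
  carrier := {u | u ∈ N ∧ l * u * l⁻¹ * u⁻¹ ∈ M}
  one_mem' := ⟨N.one_mem, by simp⟩
  mul_mem' := by
    rintro a b ⟨ha, ha'⟩ ⟨hb, hb'⟩
    refine ⟨N.mul_mem ha hb, ?_⟩
    have e : l * (a * b) * l⁻¹ * (a * b)⁻¹ = (l * a * l⁻¹ * a⁻¹) * (a * (l * b * l⁻¹ * b⁻¹) * a⁻¹) := by
      group
    rw [e]
    exact M.mul_mem ha' (hM.conj_mem _ hb' a)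
  inv_mem' := by
    rintro a ⟨ha, ha'⟩
    refine ⟨N.inv_mem ha, ?_⟩
    have e2 : l * a⁻¹ * l⁻¹ * a⁻¹⁻¹ = (l * a⁻¹ * l⁻¹) * ((l * a * l⁻¹ * a⁻¹)⁻¹) * (l * a⁻¹ * l⁻¹)⁻¹ := by
      group
    rw [e2]
    exact hM.conj_mem _ (M.inv_mem ha') _

theorem mem_CM {N M : Subgroup Γ} (hN : N.Normal) (hM : M.Normal)
    (com : ∀ a ∈ N, ∀ b ∈ N, a * b * a⁻¹ * b⁻¹ ∈ M) (l u : Γ) :
    u ∈ CM hN hM com l ↔ u ∈ N ∧ l * u * l⁻¹ * u⁻¹ ∈ M := Iff.rfl

section rank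

variable {N M : Subgroup Γ} (hN : N.Normal) (hM : M.Normal)
  (com : ∀ a ∈ N, ∀ b ∈ N, a * b * a⁻¹ * b⁻¹ ∈ M)

theorem CM_mul (l k : Γ) : CM hN hM com l ⊓ CM hN hM com k ≤ CM hN hM com (l * k) := by
  rintro u ⟨⟨hu, h1⟩, -, h2⟩
  refine ⟨hu, ?_⟩
  have e : l * k * u * (l * k)⁻¹ * u⁻¹ = l * (k * u * k⁻¹ * u⁻¹) * l⁻¹ * (l * u * l⁻¹ * u⁻¹) := by group
  rw [e]
  exact M.mul_mem (hM.conj_mem _ h2 l) h1

theorem CM_inv (l : Γ) : CM hN hM com l ≤ CM hN hM com l⁻¹ := by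
  rintro u ⟨hu, h1⟩
  refine ⟨hu, ?_⟩
  have e : l⁻¹ * u * l⁻¹⁻¹ * u⁻¹ = l⁻¹ * (l * u * l⁻¹ * u⁻¹)⁻¹ * l⁻¹⁻¹ := by group
  rw [e]
  exact hM.conj_mem _ (M.inv_mem h1) _

theorem CM_conj (l k : Γ) :
    CM hN hM com (k * l * k⁻¹) = (CM hN hM com l).map (MulAut.conj k).toMonoidHom := by
  have key : ∀ (l k : Γ) {u : Γ}, u ∈ CM hN hM com l → k * u * k⁻¹ ∈ CM hN hM com (k * l * k⁻¹) := by
    rintro l k u ⟨hu, h1⟩
    refine ⟨hN.conj_mem u hu k, ?_⟩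
    have e : k * l * k⁻¹ * (k * u * k⁻¹) * (k * l * k⁻¹)⁻¹ * (k * u * k⁻¹)⁻¹
        = k * (l * u * l⁻¹ * u⁻¹) * k⁻¹ := by group
    rw [e]; exact hM.conj_mem _ h1 k
  apply le_antisymm
  · intro u hu
    refine ⟨k⁻¹ * u * k, ?_, ?_⟩
    · have := key _ k⁻¹ hu
      have e : k⁻¹ * (k * l * k⁻¹) * k⁻¹⁻¹ = l := by group
      rw [e, inv_inv] at this
      exact this
    · show k * (k⁻¹ * u * k) * k⁻¹ = u
      group
  · rintro _ ⟨u, hu, rfl⟩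
    exact key l k hu

theorem CM_relIndex_conj (l k : Γ) :
    (CM hN hM com (k * l * k⁻¹)).relIndex N = (CM hN hM com l).relIndex N := by
  have e : N = N.map (MulAut.conj k).toMonoidHom := by
    apply le_antisymm
    · intro u hu
      refine ⟨k⁻¹ * u * k, by simpa using hN.conj_mem u hu k⁻¹, ?_⟩
      show k * (k⁻¹ * u * k) * k⁻¹ = u
      group
    · rintro _ ⟨u, hu, rfl⟩
      exact hN.conj_mem u hu k
  rw [CM_conj]
  exact (congrArg (fun T => ((CM hN hM com l).map (MulAut.conj k).toMonoidHom).relIndex T) e).trans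
    (Subgroup.relIndex_map_map_of_injective _ _ (MulAut.conj k).injective)

/-- `i(l)ⁿ` bounds the index of the centraliser of a product of `n` conjugates of `l` and `l⁻¹` -/
theorem CM_relIndex_prod [Finite N] (l : Γ) (L : List Γ)
    (hL : ∀ t ∈ L, ∃ k, t = k * l * k⁻¹ ∨ t = k * l⁻¹ * k⁻¹) :
    (CM hN hM com L.prod).relIndex N ≤ (CM hN hM com l).relIndex N ^ L.length := by
  have hfin : ∀ H : Subgroup Γ, H.relIndex N ≠ 0 := by
    intro H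
    rw [Subgroup.relIndex]
    exact Subgroup.index_ne_zero_of_finite
  induction L with
  | nil =>
    have e : (CM hN hM com ([] : List Γ).prod).relIndex N = 1 := by
      rw [Subgroup.relIndex_eq_one]
      intro u hu
      refine ⟨hu, ?_⟩
      simp
    rw [e]; simp
  | cons t L ih =>
    rw [List.prod_cons, List.length_cons, pow_succ, mul_comm]
    have h1 : (CM hN hM com t).relIndex N ≤ (CM hN hM com l).relIndex N := by
      obtain ⟨k, rfl | rfl⟩ := hL t (List.mem_cons_self)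
      · rw [CM_relIndex_conj]
      · rw [CM_relIndex_conj]
        exact Subgroup.relIndex_le_of_le_left (CM_inv hN hM com l) (hfin _)
    refine (Subgroup.relIndex_le_of_le_left (CM_mul hN hM com t L.prod) (hfin _)).trans ?_
    refine Subgroup.relIndex_inf_le.trans (Nat.mul_le_mul h1 (ih fun t ht => hL t ?_))
    exact List.mem_cons_of_mem _ ht

include hN hM com in
/-- **rank bound**: if a product of at most `n` conjugates of `l^{±1}` is fixed point free on `N/M` and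
`b ^ n < |N/M|`, then `b |C_N(l mod M)| < |N|` -/
theorem card_CM_lt [Finite N] (hMN : M ≤ N) (l : Γ) (L : List Γ)
    (hL : ∀ t ∈ L, ∃ k, t = k * l * k⁻¹ ∨ t = k * l⁻¹ * k⁻¹) (hx : FF N M L.prod) {b n : ℕ}
    (hn : L.length ≤ n) (hb : b ^ n < M.relIndex N) :
    b * Nat.card {u : Γ | u ∈ N ∧ l * u * l⁻¹ * u⁻¹ ∈ M} < Nat.card N := by
  have e1 : CM hN hM com L.prod = M := by
    apply le_antisymm
    · rintro u ⟨hu, h1⟩
      exact hx u hu h1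
    · intro u hu
      refine ⟨hMN hu, ?_⟩
      exact M.mul_mem (hM.conj_mem u hu _) (M.inv_mem hu)
  have h1 := CM_relIndex_prod hN hM com l L hL
  rw [e1] at h1
  set i := (CM hN hM com l).relIndex N with hi
  have hi0 : i ≠ 0 := by
    rw [hi, Subgroup.relIndex]
    exact Subgroup.index_ne_zero_of_finite
  have h2 : b < i := by
    by_contra hcon
    have h3 : i ^ L.length ≤ b ^ n := by
      refine (Nat.pow_le_pow_right (Nat.pos_of_ne_zero hi0) hn).trans ?_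
      exact Nat.pow_le_pow_left (not_lt.1 hcon) n
    omega
  have h4 : i * Nat.card (CM hN hM com l) = Nat.card N := by
    have hle : CM hN hM com l ≤ N := fun u hu => hu.1
    rw [hi, Subgroup.relIndex, mul_comm,
      ← Nat.card_congr (Subgroup.subgroupOfEquivOfLe hle).toEquiv]
    exact Subgroup.card_mul_index _
  have h5 : Nat.card {u : Γ | u ∈ N ∧ l * u * l⁻¹ * u⁻¹ ∈ M} = Nat.card (CM hN hM com l) := rfl
  rw [h5, ← h4]
  refine Nat.mul_lt_mul_of_pos_right h2 ?_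
  have : Finite (CM hN hM com l) := Finite.of_injective
    (fun u => (⟨u, u.2.1⟩ : N)) (fun a b h => by
      simp only [Subtype.mk.injEq] at h
      exact Subtype.ext h)
  exact Nat.card_pos

end rank

end group

end Cfsg.Agent.H590.F4
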