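import Cfsg.Agent.H231.QF.Defs
import Cfsg.Agent.H590.F4.PairG
import Cfsg.Agent.H326.QS.VP

/-!
# `2²E₆(2)`: the elements over `P₄ ∖ V₄`, `P₄ = 2^(8+16):Ω₈⁻(2)` : assembly (helper590, row F4 of S2491)

`V2 φ` : the second layer (`2^8`) of `V φ j4`; `KF φ x₀` : the facts in `K = ²E₆(2)`, `x₀` of order 21;
`DF`, `BF` : the facts in a cover with kernel of order 4; `p4_of` : the assembly.
-/

set_option autoImplicit false

namespace Cfsg.Agent.H590.F4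

open CoxeterSystem Cfsg.Agent.ChevalleyStructure.CoxeterGeom Cfsg.Agent.Tits.Roots Cfsg.Agent.Tits.Core
  Cfsg.Agent.Nodes Cfsg.Agent.Nodes.Reps Cfsg.Agent.Nodes.BNOf Cfsg.Agent.Nodes.RGDLib Cfsg.Agent.Nodes.Bruhat
  Cfsg.Agent.Nodes.OppDec Cfsg.Agent.Nodes.LeviDec Cfsg.Agent.Nodes.StabComb
open Cfsg.Lie Subgroup
open Cfsg.Agent.H51.Mult (PCE)
open Cfsg.Agent.H777.Ore (AllC IsC)
open Cfsg.Agent.H231.QF

universe u v

variable {F : Type u} [Field F]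

/-- the second layer of `V φ j4` : the root groups with coefficient 2 at node 3 -/
noncomputable abbrev V2 (φ : F →+* F) : Subgroup (KK F) :=
  RGD.Sup (X φ) (Cfsg.Agent.H326.QS.VP.Q fun x => x 3 = 2)

/-- the facts in `²E₆(2)` -/
structure KF (φ : F →+* F) (x₀ : KK F) : Prop where
  /-- the layer is normal in `P₄` and central in `V₄`, which is abelian modulo the layer -/
  le : V2 φ ≤ V φ j4
  norm : ∀ g ∈ P φ j4, ∀ d ∈ V2 φ, g * d * g⁻¹ ∈ V2 φ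
  cen : ∀ a ∈ V φ j4, ∀ d ∈ V2 φ, a * d = d * a
  com : ∀ a ∈ V φ j4, ∀ b ∈ V φ j4, a * b * a⁻¹ * b⁻¹ ∈ V2 φ
  idx : (V2 φ).relIndex (V φ j4) = 2 ^ 16
  /-- `P₄` acts irreducibly on `V₄/V2` -/
  irr : ∀ M : Subgroup (KK F), V2 φ ≤ M → M ≤ V φ j4 → (∀ g ∈ P φ j4, ∀ m ∈ M, g * m * g⁻¹ ∈ M) →
    M = V2 φ ∨ M = V φ j4
  /-- `x₀` (order 21) is fixed point free on both layers -/
  xL : x₀ ∈ Lv φ j4
  xW : ∀ u ∈ V φ j4, x₀ * u * x₀⁻¹ * u⁻¹ ∈ V2 φ → u ∈ V2 φ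
  xD : ∀ d ∈ V2 φ, x₀ * d = d * x₀ → d = 1
  /-- class cover of `Ω₈⁻(2)` -/
  cover : ∀ l ∈ Lv φ j4, l ≠ 1 → ∃ a ∈ Lv φ j4, ∃ b ∈ Lv φ j4, l = a * x₀ * a⁻¹ * (b * x₀⁻¹ * b⁻¹)
  /-- at most five conjugates of `l^{±1}` have a product which is fixed point free on `V₄/V2` -/
  rank : ∀ l ∈ Lv φ j4, l ≠ 1 → ∃ L : List (KK F), L.length ≤ 5 ∧
    (∀ t ∈ L, ∃ k ∈ Lv φ j4, t = k * l * k⁻¹ ∨ t = k * l⁻¹ * k⁻¹) ∧
    ∀ u ∈ V φ j4, L.prod * u * L.prod⁻¹ * u⁻¹ ∈ V2 φ → u ∈ V2 φ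

/-- the complement `D` of the kernel in the preimage of the layer -/
structure DF {L : Type v} [Group L] (φ : F →+* F) (π : L →* KK F) (D : Subgroup L) : Prop where
  disj : ∀ d ∈ D, π d = 1 → d = 1
  map : D.map π = V2 φ
  norm : ∀ g, π g ∈ P φ j4 → ∀ d ∈ D, g * d * g⁻¹ ∈ D

/-- the commutators of the preimage of `V₄` generate the kernel modulo `D` -/
def BF {L : Type v} [Group L] (φ : F →+* F) (π : L →* KK F) (D : Subgroup L) : Prop :=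
  ∀ K₁ : Subgroup L, K₁ ≤ π.ker → K₁ ≠ π.ker →
    ∃ a, π a ∈ V φ j4 ∧ ∃ b, π b ∈ V φ j4 ∧ a * b * a⁻¹ * b⁻¹ ∉ K₁ ⊔ D

section two

variable {L : Type v} [Group L] [Finite L] {φ : F →+* F} {π : L →* KK F}

theorem Lv_le : Lv φ j4 ≤ P φ j4 := le_sup_left

theorem V_le : V φ j4 ≤ P φ j4 := le_sup_right

/-- covers with kernel of order 4 -/
theorem two (hN : ∀ g ∈ P φ j4, ∀ v ∈ V φ j4, g * v * g⁻¹ ∈ V φ j4)
    (hdec : ∀ g ∈ P φ j4, ∃ l ∈ Lv φ j4, ∃ v ∈ V φ j4, g = l * v) (hπ : PCE π)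
    (hk : Nat.card π.ker = 4) {x₀ : KK F} (hK : KF φ x₀) {D : Subgroup L} (hD : DF φ π D) (hB : BF φ π D)
    {x : L} (hx : π x = x₀) {g : L} (hg : π g ∈ P φ j4) (hg1 : π g ∉ V φ j4) :
    ∃ u v : L, g = (u * x * u⁻¹) * (v * x⁻¹ * v⁻¹) := by
  classical
  let Γ : Subgroup L := (P φ j4).comap π
  let ϖ : Γ →* KK F := π.comp Γ.subtype
  have hϖ : ∀ a : Γ, ϖ a = π a := fun a => rfl
  have hlift : ∀ k ∈ P φ j4, ∃ a : Γ, ϖ a = k := by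
    intro k hk'
    obtain ⟨a, rfl⟩ := hπ.surj k
    exact ⟨⟨a, hk'⟩, rfl⟩
  let N : Subgroup Γ := (V φ j4).comap ϖ
  let Z : Subgroup Γ := ϖ.ker
  let D' : Subgroup Γ := D.subgroupOf Γ
  have hNn : N.Normal := ⟨fun n hn k => by
    show ϖ (k * n * k⁻¹) ∈ V φ j4
    rw [map_mul, map_mul, map_inv]
    exact hN _ k.2 _ hn⟩
  have hDn : D'.Normal := ⟨fun n hn k => hD.norm k k.2 n hn⟩
  have hZc : ∀ z ∈ Z, ∀ k : Γ, z * k = k * z := fun z hz k => Subtype.ext (hπ.comm (z := z) hz k)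
  have hZn : Z.Normal := inferInstance
  have hZN : Z ≤ N := by
    intro z hz
    show ϖ z ∈ V φ j4
    rw [MonoidHom.mem_ker.1 hz]; exact one_mem _
  have hDV : ∀ d : L, d ∈ D → π d ∈ V2 φ := fun d hd => by
    rw [← hD.map]; exact ⟨d, hd, rfl⟩
  have hDN : D' ≤ N := fun d hd => hK.le (hDV d hd)
  have hmem : ∀ u : Γ, u ∈ Z ⊔ D' ↔ ϖ u ∈ V2 φ := by
    intro u
    constructor
    · intro hu
      have hle : Z ⊔ D' ≤ (V2 φ).comap ϖ := by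
        refine sup_le ?_ ?_
        · intro z hz
          show ϖ z ∈ V2 φ
          rw [MonoidHom.mem_ker.1 hz]; exact one_mem _
        · intro d hd
          exact hDV d hd
      exact hle hu
    · intro hu
      rw [← hD.map] at hu
      obtain ⟨d, hd, e⟩ := hu
      have hdΓ : d ∈ Γ := by
        show π d ∈ P φ j4
        exact V_le (hK.le (hDV d hd))
      have e1 : u = (u * (⟨d, hdΓ⟩ : Γ)⁻¹) * ⟨d, hdΓ⟩ := by group
      rw [e1]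
      refine mul_mem (mem_sup_left ?_) (mem_sup_right hd)
      rw [MonoidHom.mem_ker, map_mul, map_inv, mul_inv_eq_one]
      exact e.symm
  have hZD : ∀ a ∈ Z, a ∈ D' → a = 1 := fun a ha hb => Subtype.ext (hD.disj a hb ha)
  have hDc : ∀ d ∈ D', ∀ n ∈ N, d * n = n * d := by
    intro d hd n hn
    have h1 : d * n * d⁻¹ * n⁻¹ ∈ D' := by
      have e : d * n * d⁻¹ * n⁻¹ = d * (n * d⁻¹ * n⁻¹) := by group
      rw [e]
      exact mul_mem hd (hDn.conj_mem _ (inv_mem hd) n)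
    have h2 : d * n * d⁻¹ * n⁻¹ ∈ Z := by
      have e : ϖ n * ϖ d = ϖ d * ϖ n := hK.cen _ hn _ (hDV d hd)
      rw [MonoidHom.mem_ker, map_mul, map_mul, map_mul, map_inv, map_inv, ← e]
      group
    have h3 := hZD _ h2 h1
    rw [mul_inv_eq_one, mul_inv_eq_iff_eq_mul] at h3
    exact h3
  have hcom : ∀ a ∈ N, ∀ b ∈ N, a * b * a⁻¹ * b⁻¹ ∈ Z ⊔ D' := by
    intro a ha b hb
    rw [hmem]
    simp only [map_mul, map_inv]
    exact hK.com _ ha _ hb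
  -- fixed point freeness
  have hFF : ∀ (k : KK F) (t : Γ), (∀ u ∈ V φ j4, k * u * k⁻¹ * u⁻¹ ∈ V2 φ → u ∈ V2 φ) → ϖ t = k →
      FF N (Z ⊔ D') t := by
    intro k t hk' ht u hu h1
    rw [hmem] at h1 ⊢
    simp only [map_mul, map_inv, ht] at h1
    exact hk' _ hu h1
  -- decomposition
  obtain ⟨l, hl, v, hv, elv⟩ := hdec _ hg
  have hl1 : l ≠ 1 := by
    rintro rfl
    rw [one_mul] at elv
    exact hg1 (elv ▸ hv)
  obtain ⟨a, ha, b, hb, eab⟩ := hK.cover l hl hl1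
  obtain ⟨a', ha'⟩ := hlift a (Lv_le ha)
  obtain ⟨b', hb'⟩ := hlift b (Lv_le hb)
  obtain ⟨L₀, hL5, hLt, hLp⟩ := hK.rank l hl hl1
  have hxΓ : x ∈ Γ := by
    show π x ∈ P φ j4
    rw [hx]; exact Lv_le hK.xL
  let xΓ : Γ := ⟨x, hxΓ⟩
  have hxϖ : ϖ xΓ = x₀ := hx
  have hFFx : FF N (Z ⊔ D') xΓ := hFF x₀ xΓ hK.xW hxϖ
  have hMn : (Z ⊔ D').Normal := Subgroup.sup_normal Z D'
  let xx : Γ := a' * xΓ * a'⁻¹
  let yy : Γ := b' * xΓ⁻¹ * b'⁻¹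
  have hxx : FF N (Z ⊔ D') xx := hFFx.conj hNn hMn a'
  have hyy : FF N (Z ⊔ D') yy := (hFFx.inv hNn hMn).conj hNn hMn b'
  have exy : ϖ (xx * yy) = l := by
    show ϖ (a' * xΓ * a'⁻¹ * (b' * xΓ⁻¹ * b'⁻¹)) = l
    simp only [map_mul, map_inv, ha', hb', hxϖ]
    exact eab.symm
  have hxxD : ∀ d ∈ D', xx * d = d * xx → d = 1 := by
    intro d hd h1
    refine hZD d ?_ hd
    have hd2 : ϖ (a'⁻¹ * d * a') ∈ V2 φ := by
      have h3 : a'⁻¹ * d * a' ∈ D' := by simpa using hDn.conj_mem d hd a'⁻¹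
      exact hDV _ h3
    have h4 : ϖ (a'⁻¹ * d * a') = 1 := by
      refine hK.xD _ hd2 ?_
      rw [← hxϖ, ← map_mul, ← map_mul]
      congr 1
      have e1 : xΓ * (a'⁻¹ * d * a') = a'⁻¹ * (xx * d) * a' := by
        show xΓ * (a'⁻¹ * d * a') = a'⁻¹ * (a' * xΓ * a'⁻¹ * d) * a'
        group
      rw [e1, h1]
      show a'⁻¹ * (d * (a' * xΓ * a'⁻¹)) * a' = a'⁻¹ * d * a' * xΓ
      group
    rw [MonoidHom.mem_ker]
    rw [map_mul, map_mul, map_inv] at h4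
    clear_value xx
    calc ϖ d = ϖ a' * ((ϖ a')⁻¹ * ϖ d * ϖ a') * (ϖ a')⁻¹ := by group
      _ = 1 := by rw [h4]; group
  have hcardZ : Nat.card Z = 4 := by
    rw [← hk]
    refine Nat.card_congr ⟨fun z => ⟨z.1.1, z.2⟩, fun z => ⟨⟨z.1, ?_⟩, z.2⟩, fun _ => rfl, fun _ => rfl⟩
    show π z ∈ P φ j4
    rw [MonoidHom.mem_ker.1 z.2]; exact one_mem _
  -- non-degeneracy
  have hirr : ∀ M : Subgroup Γ, M.Normal → Z ⊔ D' ≤ M → M ≤ N → M = Z ⊔ D' ∨ M = N := by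
    intro M hM h1 h2
    have hkM : ϖ.ker ≤ M := le_sup_left.trans h1
    have e1 : (M.map ϖ).comap ϖ = M := by
      rw [Subgroup.comap_map_eq]; exact sup_eq_left.2 hkM
    have h3 := hK.irr (M.map ϖ) ?_ ?_ ?_
    · rcases h3 with h3 | h3
      · left
        ext u
        rw [hmem, ← e1, h3]
        exact Iff.rfl
      · right
        rw [← e1, h3]
    · intro d hd
      rw [← hD.map] at hd
      obtain ⟨d', hd', rfl⟩ := hd
      have hdΓ : d' ∈ Γ := V_le (hK.le (hDV d' hd'))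
      exact ⟨⟨d', hdΓ⟩, h1 (mem_sup_right hd'), rfl⟩
    · rintro _ ⟨m, hm, rfl⟩
      exact h2 hm
    · rintro k hk' _ ⟨m, hm, rfl⟩
      obtain ⟨k', rfl⟩ := hlift k hk'
      exact ⟨k' * m * k'⁻¹, hM.conj_mem m hm k', by simp only [map_mul, map_inv]⟩
  have hpair : ∀ K₁ : Subgroup Γ, K₁ ≤ Z → K₁ ≠ Z → ∃ a ∈ N, ∃ b ∈ N, a * b * a⁻¹ * b⁻¹ ∉ K₁ ⊔ D' := by
    intro K₁ h1 h2
    have h4 : K₁.map Γ.subtype ≤ π.ker := by
      rintro _ ⟨k, hk', rfl⟩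
      exact h1 hk'
    have h5 : K₁.map Γ.subtype ≠ π.ker := by
      intro e
      apply h2
      apply le_antisymm h1
      intro z hz
      have h3 : (z : L) ∈ K₁.map Γ.subtype := by rw [e]; exact hz
      obtain ⟨k, hk', e'⟩ := h3
      have e'' : k = z := Subtype.ext e'
      rwa [← e'']
    obtain ⟨a, ha, b, hb, hab⟩ := hB (K₁.map Γ.subtype) h4 h5
    refine ⟨⟨a, V_le ha⟩, ha, ⟨b, V_le hb⟩, hb, fun h3 => hab ?_⟩
    have hle : K₁ ⊔ D' ≤ (K₁.map Γ.subtype ⊔ D).comap Γ.subtype := by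
      refine sup_le ?_ ?_
      · intro k hk'
        exact mem_sup_left ⟨k, hk', rfl⟩
      · intro k hk'
        exact mem_sup_right hk'
    exact hle h3
  -- the rank
  have hr : (Nat.card Z - 1) ^ 2 * Nat.card {u : Γ | u ∈ N ∧ xx * yy * u * (xx * yy)⁻¹ * u⁻¹ ∈ Z ⊔ D'}
      < Nat.card N := by
    rw [hcardZ]
    -- lift the list
    have hlist : ∀ L₀ : List (KK F), (∀ t ∈ L₀, ∃ k ∈ Lv φ j4, t = k * l * k⁻¹ ∨ t = k * l⁻¹ * k⁻¹) →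
        ∃ L₁ : List Γ, L₁.length = L₀.length ∧ ϖ L₁.prod = L₀.prod ∧
          ∀ t ∈ L₁, ∃ k, t = k * (xx * yy) * k⁻¹ ∨ t = k * (xx * yy)⁻¹ * k⁻¹ := by
      intro L₀
      induction L₀ with
      | nil => exact fun _ => ⟨[], rfl, by simp, by simp⟩
      | cons t L₀ ih =>
        intro h
        obtain ⟨L₁, e1, e2, e3⟩ := ih fun s hs => h s (List.mem_cons_of_mem _ hs)
        obtain ⟨k, hk', hkt⟩ := h t List.mem_cons_self
        obtain ⟨k', rfl⟩ := hlift k (Lv_le hk')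
        rcases hkt with rfl | rfl
        · refine ⟨(k' * (xx * yy) * k'⁻¹) :: L₁, by simp [e1], ?_, ?_⟩
          · rw [List.prod_cons, map_mul, e2, List.prod_cons, map_mul, map_mul, map_inv, exy]
          · intro s hs
            rcases List.mem_cons.1 hs with rfl | hs
            · exact ⟨k', Or.inl rfl⟩
            · exact e3 s hs
        · refine ⟨(k' * (xx * yy)⁻¹ * k'⁻¹) :: L₁, by simp [e1], ?_, ?_⟩
          · rw [List.prod_cons, map_mul, e2, List.prod_cons, map_mul, map_mul, map_inv, map_inv, exy]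
          · intro s hs
            rcases List.mem_cons.1 hs with rfl | hs
            · exact ⟨k', Or.inr rfl⟩
            · exact e3 s hs
    obtain ⟨L₁, e1, e2, e3⟩ := hlist L₀ hLt
    refine card_CM_lt (N := N) (M := Z ⊔ D') hNn hMn hcom (sup_le hZN hDN) (xx * yy) L₁ e3
      (hFF L₀.prod L₁.prod hLp e2) (b := (4 - 1) ^ 2) (n := 5) (by omega) ?_
    have e4 : Z ⊔ D' = (V2 φ).comap ϖ := by
      ext u; exact hmem u
    have e5 : N.map ϖ = V φ j4 := by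
      apply le_antisymm
      · rintro _ ⟨n, hn, rfl⟩; exact hn
      · intro w hw
        obtain ⟨w', rfl⟩ := hlift w (V_le hw)
        exact ⟨w', hw, rfl⟩
    rw [e4, Subgroup.relIndex_comap, e5, hK.idx]
    norm_num
  have hgΓ : g ∈ Γ := hg
  have hc : xx⁻¹ * (⟨g, hgΓ⟩ : Γ) * yy⁻¹ ∈ N := by
    show ϖ (xx⁻¹ * (⟨g, hgΓ⟩ : Γ) * yy⁻¹) ∈ V φ j4
    have e1 : ϖ (⟨g, hgΓ⟩ : Γ) = l * v := elv
    have e2 : ϖ (xx⁻¹ * (⟨g, hgΓ⟩ : Γ) * yy⁻¹) = ϖ yy * v * (ϖ yy)⁻¹ := by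
      clear_value xx yy
      rw [map_mul, map_mul, map_inv, map_inv, e1, ← exy, map_mul]
      group
    rw [e2]
    exact hN _ yy.2 _ hv
  obtain ⟨u, -, w, -, e⟩ := exists_pair hNn hDn hZN hDN hZc hDc hZD hcom hxx hxxD hyy
    (nd_of_irr hNn hDn hZN hDN hZc hDc hirr hpair) hr hc
  refine ⟨u * a', w * b', ?_⟩
  have e1 : g = (u : L) * ((a' : L) * x * (a' : L)⁻¹) * (u : L)⁻¹ *
      ((w : L) * ((b' : L) * x⁻¹ * (b' : L)⁻¹) * (w : L)⁻¹) := congrArg (fun t : Γ => (t : L)) e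
  rw [e1]
  group

end two

/-- `c = x^u (x⁻¹)^v ζ`, `x ζ` conjugate to `x` : `c` is a commutator -/
theorem isC_of_twist {L : Type v} [Group L] {x u w c ζ y : L} (hz : ∀ g : L, ζ * g = g * ζ)
    (e : c = (u * x * u⁻¹) * (w * x⁻¹ * w⁻¹) * ζ) (hy : y * x * y⁻¹ = x * ζ) : IsC c := by
  refine ⟨u * y * x * (u * y)⁻¹, w * (u * y)⁻¹, ?_⟩
  have e1 : u * y * x * (u * y)⁻¹ = u * x * u⁻¹ * ζ := by
    have e2 : u * y * x * (u * y)⁻¹ = u * (y * x * y⁻¹) * u⁻¹ := by group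
    rw [e2, hy, mul_assoc, mul_assoc, hz u⁻¹]
    simp only [mul_assoc]
  have e3 : w * (u * y)⁻¹ * (u * y * x * (u * y)⁻¹)⁻¹ * (w * (u * y)⁻¹)⁻¹ = w * x⁻¹ * w⁻¹ := by group
  have e4 : u * y * x * (u * y)⁻¹ * (w * (u * y)⁻¹) * (u * y * x * (u * y)⁻¹)⁻¹ * (w * (u * y)⁻¹)⁻¹
      = (u * y * x * (u * y)⁻¹) * (w * (u * y)⁻¹ * (u * y * x * (u * y)⁻¹)⁻¹ * (w * (u * y)⁻¹)⁻¹) := by group
  rw [e4, e3, e1, e, mul_assoc _ ζ, hz (w * x⁻¹ * w⁻¹)]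
  simp only [mul_assoc]

/-- **P4, assembled** : all elements over `P₄ ∖ V₄` -/
theorem p4_of {L : Type v} [Group L] [Finite L] {φ : F →+* F} {π : L →* KK F}
    (hN : ∀ g ∈ P φ j4, ∀ v ∈ V φ j4, g * v * g⁻¹ ∈ V φ j4)
    (hdec : ∀ g ∈ P φ j4, ∃ l ∈ Lv φ j4, ∃ v ∈ V φ j4, g = l * v) (hπ : PCE π)
    (hk : Nat.card π.ker = 12) {x₀ : KK F} (hK : KF φ x₀)
    (hDB : ∀ {L' : Type v} [Group L'] [Finite L'] {ρ : L' →* KK F}, PCE ρ → Nat.card ρ.ker = 4 →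
      ∃ D, DF φ ρ D ∧ BF φ ρ D)
    (hX3 : ∀ x ζ : L, π x = x₀ → π ζ = 1 → ζ ^ 3 = 1 → ∃ y, y * x * y⁻¹ = x * ζ)
    (g : L) (hg : π g ∈ P φ j4) (hg1 : π g ∉ V φ j4) : IsC g := by
  classical
  have h3 : Fact (Nat.Prime 3) := ⟨Nat.prime_three⟩
  obtain ⟨N₀, hN₀⟩ := Sylow.exists_subgroup_card_pow_prime (G := π.ker) 3 (n := 1) (by rw [hk]; norm_num)
  let N₁ : Subgroup L := N₀.map π.ker.subtype
  have hN₁ : N₁ ≤ π.ker := by
    rintro _ ⟨z, -, rfl⟩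
    exact z.2
  have hcN₁ : Nat.card N₁ = 3 := by
    have e := Nat.card_congr (N₀.equivMapOfInjective π.ker.subtype (Subgroup.subtype_injective _)).toEquiv
    rw [← e, hN₀, pow_one]
  obtain ⟨L', _, q, ρ, hq, hqk, hρ, hρc⟩ := hπ.quot hN₁
  have hfin : Finite L' := Finite.of_surjective q hq
  have hk' : Nat.card ρ.ker = 4 := by
    have e := Cfsg.Agent.H51.Mult.card_ker_of_quot hq hρ
    rw [hk, hqk, hcN₁] at e
    omega
  obtain ⟨D, hD, hB⟩ := hDB hρc hk'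
  obtain ⟨x, hx⟩ := hπ.surj x₀
  obtain ⟨u, w, e⟩ := two (x := q x) (g := q g) hN hdec hρc hk' hK hD hB (by rw [hρ, hx])
    (by rw [hρ]; exact hg) (by rw [hρ]; exact hg1)
  obtain ⟨u, rfl⟩ := hq u
  obtain ⟨w, rfl⟩ := hq w
  let ζ : L := ((u * x * u⁻¹) * (w * x⁻¹ * w⁻¹))⁻¹ * g
  have hζ : ζ ∈ N₁ := by
    rw [← hqk, MonoidHom.mem_ker]
    show q (((u * x * u⁻¹) * (w * x⁻¹ * w⁻¹))⁻¹ * g) = 1
    rw [map_mul, map_inv, e]
    simp only [map_mul, map_inv]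
    group
  have hζ1 : π ζ = 1 := hN₁ hζ
  have hζ3 : ζ ^ 3 = 1 := by
    have h1 := pow_card_eq_one' (x := (⟨ζ, hζ⟩ : N₁))
    rw [hcN₁] at h1
    exact congrArg Subtype.val h1
  obtain ⟨y, hy⟩ := hX3 x ζ hx hζ1 hζ3
  refine isC_of_twist (x := x) (u := u) (w := w) (ζ := ζ) (y := y) (fun k => hπ.comm hζ1 k) ?_ hy
  show g = (u * x * u⁻¹) * (w * x⁻¹ * w⁻¹) * (((u * x * u⁻¹) * (w * x⁻¹ * w⁻¹))⁻¹ * g)
  group

end Cfsg.Agent.H590.F4
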