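import Cfsg.Agent.H590.F4.P4Parts
import Cfsg.Agent.H374.QF.IrrK
import Cfsg.Agent.H240.F4.CovRk
import Cfsg.Agent.H584.F4.ExD

/-!
# P4 from the identification of `L₄` with `Ω₈⁻(2)` and the pairs (helper590, row F4 of S2491)
-/

set_option autoImplicit false

namespace Cfsg.Agent.H590.F4

open Cfsg.Lie Subgroup
open Cfsg.Agent.H51.Mult (PCE)
open Cfsg.Agent.H777.Ore (IsC)
open Cfsg.Agent.H231.QF
open Cfsg.Agent.H181.O8m

universe u v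

/-- **P4** from `ψ : L₄ → O₈⁻(2)` and `BF` -/
theorem p4_of_iden {F : Type u} [Field F] [Fintype F] (hF : Fintype.card F = 4) {φ : F →+* F} (hφ : ∀ t, φ t = t ^ 2)
    {p : Multiplicative V →* KK F} (hp : Function.Injective p) (hpr : p.range = V2 φ) {ψ : ↥(Lv φ j4) →* ↥O8}
    (hψ : ∀ (g : ↥(Lv φ j4)) (v : V), (g : KK F) * p (.ofAdd v) * (g : KK F)⁻¹ =
      p (.ofAdd ((ψ g : V ≃ₗ[ZMod 2] V) v)))
    (hgen : ∀ g : ↥O8, Cfsg.Agent.H240.F4.IsG g → g ∈ ψ.range) {r : V} (hr : r ≠ 0) (hqr : q r = 0)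
    (hrt : p (.ofAdd r) ∈ Cfsg.Agent.BabyU.rootClass F)
    (bf : ∀ {L' : Type v} [Group L'] [Finite L'] {ρ : L' →* KK F}, PCE ρ → Nat.card ρ.ker = 4 →
      ∀ D : Subgroup L', DF φ ρ D → BF φ ρ D)
    {L : Type v} [Group L] [Finite L] {π : L →* KK F} (hπ : PCE π) (hk : Nat.card π.ker = 12) (g : L)
    (h : π g ∈ P φ j4) (h1 : π g ∉ V φ j4) : IsC g := by
  have e := Cfsg.Agent.H240.F4.iden_of hF hφ ψ hgen
  refine p4_parts hF hφ (Cfsg.Agent.H374.QF.irr hF hφ) (Cfsg.Agent.H240.F4.cover_of e)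
    (Cfsg.Agent.H240.F4.rank_of e) ?_ hπ hk g h h1
  intro L' _ _ ρ hρ h4
  obtain ⟨D, hD⟩ := Cfsg.Agent.H584.F4.ExD.exists_D_of_iden hF hφ hp hpr hψ hgen hr hqr hrt hρ
  exact ⟨D, hD, bf hρ h4 D hD⟩

end Cfsg.Agent.H590.F4
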