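import Cfsg.Agent.H590.F4.P4Iden
import Cfsg.Agent.H326.QF.BFOf
import Cfsg.Agent.H588.F4.Main
import Cfsg.Agent.H584.F4.Fin

/-!
# P4 : the elements over `P₄ ∖ V₄` of the covers of `²E₆(2)` with kernel of order 12 are commutators
(helper590, row F4 of S2491)
-/

set_option autoImplicit false

namespace Cfsg.Agent.H590.F4.P4Main

open Cfsg.Lie Subgroup
open Cfsg.Agent.H51.Mult (PCE)
open Cfsg.Agent.H777.Ore (IsC)
open Cfsg.Agent.H231.QF
open Cfsg.Agent.H181.O8m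
open Cfsg.Agent.TwoESix.LeviA (Four)

universe u v

/-- **P4** -/
theorem p4 {F : Type u} [Field F] [Fintype F] (hF : Fintype.card F = 4) {φ : F →+* F} (hφ : ∀ t, φ t = t ^ 2)
    {L : Type v} [Group L] [Finite L] {π : L →* KK F} (hπ : PCE π) (hk : Nat.card π.ker = 12) (g : L)
    (h : π g ∈ P φ j4) (h1 : π g ∉ V φ j4) : IsC g := by
  obtain ⟨p, ψ, hp, hpr, hψ, hgen, h71⟩ := Cfsg.Agent.H588.F4.exists_model hF hφ
  refine p4_of_iden hF hφ hp hpr hψ hgen (r := dec 16) Cfsg.Agent.H584.F4.Fin.dec16_ne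
    Cfsg.Agent.H584.F4.Fin.dec16_q ?_ (fun hρ h4 D hD => Cfsg.Agent.H326.QF.BFOf.bf_of hF hφ hρ h4 hD) hπ hk g h h1
  have H : Four F φ := ⟨hF, hφ, fun t => by
    rw [hφ, hφ, ← pow_mul]
    have h2 := FiniteField.pow_card t
    rwa [hF] at h2⟩
  rw [Cfsg.Agent.TwoESix.RootsInst.mem_rootClass_iff H]
  refine ⟨1, ?_⟩
  rw [h71, Subgroup.coe_one, one_mul, inv_one, mul_one]

end Cfsg.Agent.H590.F4.P4Main
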