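import Mathlib

/-!
# Products of two cosets of a special group: all central lifts at once (helper590, row F4 of S2491)

`N` a finite group with central subgroup `Z`, `N/Z` abelian, `X`, `Y` automorphisms of `N` trivial on
`Z` and fixed point free on `N/Z`.  If for every non-trivial character `χ` of `Z` the form
`χ ∘ [,]` is non-degenerate on `N/Z` and `(|Z| - 1)² |C_{N/Z}(Y⁻¹X)| < |N/Z|`, then for every `m`
there are `u`, `v` with `u (X u)⁻¹ m = v (Y v)⁻¹`.  In a group `Γ ⊵ N` : every `c ∈ x y N` is a product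
of an `N`-conjugate of `x` and an `N`-conjugate of `y`.
-/

set_option autoImplicit false

namespace Cfsg.Agent.H590.F4

universe u

open scoped BigOperators

section core

variable {N : Type u} [Group N]

/-- the bound of a Gauss sum over a finite group -/
theorem gauss_bound [Finite N] [Fintype N] (f : N → ℂ) (hf : ∀ u, ‖f u‖ = 1) (H : N → N → ℂ)
    (hH : ∀ u v, f (u * v) * (starRingEnd ℂ) (f v) = f u * (starRingEnd ℂ) (f 1) * H u v)
    (hm : ∀ u v w, H u (v * w) = H u v * H u w)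
    (R : Set N) (hR : ∀ u, (∀ v, H u v = 1) → u ∈ R) :
    ‖∑ u, f u‖ ^ 2 ≤ (Nat.card R : ℝ) * (Fintype.card N : ℝ) := by
  classical
  have e1 : ((‖∑ u, f u‖ ^ 2 : ℝ) : ℂ) = ∑ u, f u * (starRingEnd ℂ) (f 1) * ∑ v, H u v := by
    have h2 : ((‖∑ u, f u‖ ^ 2 : ℝ) : ℂ) = (∑ u, f u) * (starRingEnd ℂ) (∑ v, f v) := by
      rw [Complex.mul_conj, Complex.normSq_eq_norm_sq]
    rw [h2, map_sum, Finset.mul_sum]
    have h3 : ∀ v, (∑ u, f u) * (starRingEnd ℂ) (f v) = ∑ u, f u * (starRingEnd ℂ) (f 1) * H u v := by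
      intro v
      rw [← Equiv.sum_comp (Equiv.mulRight v) f, Finset.sum_mul]
      refine Finset.sum_congr rfl fun u _ => ?_
      exact hH u v
    simp_rw [h3]
    rw [Finset.sum_comm]
    refine Finset.sum_congr rfl fun u _ => ?_
    rw [Finset.mul_sum]
  have h4 : ∀ u, (∑ v, H u v) = if (∀ v, H u v = 1) then (Fintype.card N : ℂ) else 0 := by
    intro u
    split_ifs with h
    · simp [h]
    · push Not at h
      obtain ⟨w, hw⟩ := h
      have h5 : (∑ v, H u v) = H u w * ∑ v, H u v := by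
        conv_lhs => rw [← Equiv.sum_comp (Equiv.mulLeft w) (fun v => H u v)]
        rw [Finset.mul_sum]
        refine Finset.sum_congr rfl fun v _ => ?_
        exact hm u w v
      have h6 : (1 - H u w) * ∑ v, H u v = 0 := by
        rw [sub_mul, one_mul, ← h5, sub_self]
      rcases mul_eq_zero.1 h6 with h | h
      · exact absurd (sub_eq_zero.1 h).symm hw
      · exact h
  have h7 : ‖∑ u, f u‖ ^ 2 = ‖((‖∑ u, f u‖ ^ 2 : ℝ) : ℂ)‖ := by
    rw [Complex.norm_real, Real.norm_of_nonneg (by positivity)]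
  rw [h7, e1]
  refine (norm_sum_le _ _).trans ?_
  have h8 : ∀ u, ‖f u * (starRingEnd ℂ) (f 1) * ∑ v, H u v‖
      ≤ if (u ∈ R) then (Fintype.card N : ℝ) else 0 := by
    intro u
    rw [norm_mul, norm_mul, hf, RCLike.norm_conj, hf, h4]
    split_ifs with h h' h'
    · simp
    · exact absurd (hR u h) h'
    · simp
    · simp
  refine (Finset.sum_le_sum fun u _ => h8 u).trans (le_of_eq ?_)
  rw [← Finset.sum_filter, Finset.sum_const, nsmul_eq_mul]
  congr 2
  rw [Nat.card_eq_fintype_card, Fintype.card_subtype]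

/-- the frame: `Z` central with `N/Z` abelian, `X` and `Y` fixed point free on `N/Z` -/
structure Fr (Z : Subgroup N) (X Y : N ≃* N) : Prop where
  cen : ∀ z ∈ Z, ∀ n, z * n = n * z
  com : ∀ a b : N, a * b * a⁻¹ * b⁻¹ ∈ Z
  fX : ∀ z ∈ Z, X z = z
  fY : ∀ z ∈ Z, Y z = z
  inX : ∀ u, u * (X u)⁻¹ ∈ Z → u ∈ Z
  inY : ∀ u, u * (Y u)⁻¹ ∈ Z → u ∈ Z

namespace Fr

variable {Z : Subgroup N} {X Y : N ≃* N}

theorem normal (h : Fr Z X Y) : Z.Normal :=
  ⟨fun z hz g => by rw [← h.cen z hz g, mul_assoc, mul_inv_cancel, mul_one]; exact hz⟩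

theorem symm (h : Fr Z X Y) : Fr Z Y X :=
  ⟨h.cen, h.com, h.fY, h.fX, h.inY, h.inX⟩

/-- the commutator form -/
def B (h : Fr Z X Y) (a b : N) : Z := ⟨a * b * a⁻¹ * b⁻¹, h.com a b⟩

theorem B_coe (h : Fr Z X Y) (a b : N) : ((h.B a b : Z) : N) = a * b * a⁻¹ * b⁻¹ := rfl

theorem zc (h : Fr Z X Y) (z : Z) (n : N) : (z : N) * n = n * z := h.cen z z.2 n

theorem swap (h : Fr Z X Y) (a b : N) : a * b = h.B a b * (b * a) := by
  rw [B_coe]; group

theorem B_mul_left (h : Fr Z X Y) (a a' b : N) : h.B (a * a') b = h.B a b * h.B a' b := by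
  apply Subtype.ext
  rw [Subgroup.coe_mul]
  have e : ((h.B (a * a') b : Z) : N) = a * (h.B a' b : N) * b * a⁻¹ * b⁻¹ := by
    rw [B_coe, B_coe]; group
  rw [e, ← h.zc, B_coe h a b, ← h.zc (h.B a' b) (a * b * a⁻¹ * b⁻¹)]
  simp only [mul_assoc]

theorem B_symm (h : Fr Z X Y) (a b : N) : h.B b a = (h.B a b)⁻¹ := by
  apply Subtype.ext
  rw [Subgroup.coe_inv, B_coe, B_coe]; group

theorem B_mul_right (h : Fr Z X Y) (a b b' : N) : h.B a (b * b') = h.B a b * h.B a b' := by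
  have hz : ∀ p q : Z, p * q = q * p := fun p q => Subtype.ext (h.zc p q)
  rw [B_symm h (b * b') a, B_mul_left, mul_inv_rev, ← B_symm, ← B_symm, hz]

theorem B_one_left (h : Fr Z X Y) (b : N) : h.B 1 b = 1 := by
  apply Subtype.ext; rw [B_coe]; simp

theorem B_inv_left (h : Fr Z X Y) (a b : N) : h.B a⁻¹ b = (h.B a b)⁻¹ := by
  rw [eq_inv_iff_mul_eq_one, ← B_mul_left, inv_mul_cancel, B_one_left]

theorem B_inv_right (h : Fr Z X Y) (a b : N) : h.B a b⁻¹ = (h.B a b)⁻¹ := by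
  rw [B_symm h b⁻¹ a, B_inv_left, ← B_symm]

theorem B_z_left (h : Fr Z X Y) (z : Z) (b : N) : h.B z b = 1 := by
  apply Subtype.ext; rw [B_coe, h.zc]; simp

theorem B_z_right (h : Fr Z X Y) (z : Z) (b : N) : h.B b z = 1 := by
  rw [B_symm, B_z_left, inv_one]

/-- `u ↦ u (X u)⁻¹` -/
def ρ (_h : Fr Z X Y) (u : N) : N := u * (X u)⁻¹

theorem ρ_surj (h : Fr Z X Y) [Finite N] (n : N) : ∃ v : N, ∃ z : Z, n = z * h.ρ v := by
  classical
  have hn := h.normal
  let F : N ⧸ Z → N ⧸ Z := fun q => q * (QuotientGroup.map Z Z X.toMonoidHom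
    (fun z hz => by
      rw [Subgroup.mem_comap]
      have e : X.toMonoidHom z = z := h.fX z hz
      rw [e]; exact hz) q)⁻¹
  have hF : ∀ u : N, F (u : N ⧸ Z) = ((u * (X u)⁻¹ : N) : N ⧸ Z) := fun u => rfl
  have hinj : Function.Injective F := by
    intro p q
    induction p using QuotientGroup.induction_on with | _ a => ?_
    induction q using QuotientGroup.induction_on with | _ b => ?_
    intro e
    have e2 : ((b⁻¹ * a : N) : N ⧸ Z) = ((X (b⁻¹ * a) : N) : N ⧸ Z) := by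
      have e1 : ((a : N ⧸ Z) * ((X a : N) : N ⧸ Z)⁻¹) = ((b : N ⧸ Z) * ((X b : N) : N ⧸ Z)⁻¹) := e
      have e3 : (b : N ⧸ Z)⁻¹ * a = ((X b : N) : N ⧸ Z)⁻¹ * ((X a : N) : N ⧸ Z) := by
        have e4 : (a : N ⧸ Z) = (b : N ⧸ Z) * ((X b : N) : N ⧸ Z)⁻¹ * ((X a : N) : N ⧸ Z) := by
          rw [← e1]; group
        rw [e4]; group
      rw [map_mul, map_inv]
      exact e3
    have e5 : (b⁻¹ * a) * (X (b⁻¹ * a))⁻¹ ∈ Z := by
      rw [← QuotientGroup.eq_one_iff]
      show ((b⁻¹ * a : N) : N ⧸ Z) * ((X (b⁻¹ * a) : N) : N ⧸ Z)⁻¹ = 1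
      rw [← e2, mul_inv_cancel]
    exact (QuotientGroup.eq.2 (h.inX _ e5)).symm
  have hsurj : Function.Surjective F := Finite.surjective_of_injective hinj
  obtain ⟨q, hq⟩ := hsurj (n : N ⧸ Z)
  induction q using QuotientGroup.induction_on with | _ v => ?_
  rw [hF] at hq
  refine ⟨v, ⟨n * (v * (X v)⁻¹)⁻¹, ?_⟩, ?_⟩
  · have := QuotientGroup.eq.1 hq
    rw [← h.normal.mem_comm_iff] at this
    exact this
  · show n = n * (v * (X v)⁻¹)⁻¹ * (v * (X v)⁻¹)
    group

theorem ρ_mul (h : Fr Z X Y) (u v : N) :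
    h.ρ (u * v) = h.B u (h.ρ v) * h.B (h.ρ v) (h.ρ u) * (h.ρ u * h.ρ v) := by
  have e : h.ρ (u * v) = u * h.ρ v * (X u)⁻¹ := by
    simp only [ρ, map_mul, mul_inv_rev, mul_assoc]
  have e2 : u * h.ρ v * (X u)⁻¹ = h.B u (h.ρ v) * (h.ρ v * h.ρ u) := by
    rw [h.swap u (h.ρ v)]
    simp only [ρ, mul_assoc]
  rw [e, e2, h.swap (h.ρ v) (h.ρ u)]
  simp only [mul_assoc]

theorem ρ_z (h : Fr Z X Y) (z : Z) : h.ρ z = 1 := by
  show (z : N) * (X z)⁻¹ = 1
  rw [h.fX z z.2, mul_inv_cancel]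

theorem uniq (h : Fr Z X Y) {v v' : N} {z z' : Z} (e : (z : N) * h.ρ v = z' * h.ρ v') : z = z' := by
  have e1 : h.ρ v = (z : N)⁻¹ * z' * h.ρ v' := by
    rw [mul_assoc, ← e]; group
  have hw : (v'⁻¹ * v) * (X (v'⁻¹ * v))⁻¹ = (z : N)⁻¹ * z' := by
    have e2 : (v'⁻¹ * v) * (X (v'⁻¹ * v))⁻¹ = v'⁻¹ * h.ρ v * X v' := by
      simp only [ρ, map_mul, map_inv, mul_inv_rev, inv_inv, mul_assoc]
    rw [e2, e1]
    have e3 := h.zc (z⁻¹ * z') v'⁻¹
    rw [Subgroup.coe_mul, Subgroup.coe_inv] at e3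
    rw [← mul_assoc v'⁻¹, ← e3, ρ]
    group
  have hz : (v'⁻¹ * v) * (X (v'⁻¹ * v))⁻¹ ∈ Z := by
    rw [hw]; exact Z.mul_mem (Z.inv_mem z.2) z'.2
  have h1 := h.inX _ hz
  have h2 : (v'⁻¹ * v) * (X (v'⁻¹ * v))⁻¹ = 1 := h.ρ_z ⟨_, h1⟩
  rw [hw] at h2
  exact Subtype.ext (inv_mul_eq_one.1 h2)

/-- the class label of `n` : `n = β n * ρ (v n)` -/
theorem exists_label (h : Fr Z X Y) [Finite N] :
    ∃ (v : N → N) (β : N → Z), (∀ n, n = β n * h.ρ (v n)) ∧ β 1 = 1 ∧
      (∀ (z : Z) n, β (z * n) = z * β n) ∧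
      ∀ a b, β (a * b) = β a * β b * h.B ((v a)⁻¹ * a) b := by
  classical
  choose v β hv using h.ρ_surj
  have hz : ∀ p q : Z, p * q = q * p := fun p q => Subtype.ext (h.zc p q)
  refine ⟨v, β, hv, ?_, ?_, ?_⟩
  · refine h.uniq (v := v 1) (v' := 1) ?_
    rw [← hv 1]
    simp [ρ]
  · intro z n
    refine h.uniq (v := v (z * n)) (v' := v n) ?_
    rw [← hv, Subgroup.coe_mul, mul_assoc, ← hv]
  · intro a b
    refine h.uniq (v := v (a * b)) (v' := v a * v b) ?_
    rw [← hv, h.ρ_mul]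
    have ha := hv a
    have hb := hv b
    have e1 : h.B (v a) (h.ρ (v b)) = h.B (v a) b := by
      conv_rhs => rw [hb, B_mul_right, B_z_right, one_mul]
    have e2 : h.B (h.ρ (v b)) (h.ρ (v a)) = h.B b a := by
      conv_rhs => rw [hb]
      rw [B_mul_left, B_z_left, one_mul]
      conv_rhs => rw [ha]
      rw [B_mul_right, B_z_right, one_mul]
    rw [e1, e2]
    have e3 : h.B ((v a)⁻¹ * a) b * (h.B (v a) b * h.B b a) = 1 := by
      rw [B_mul_left, B_inv_left, h.B_symm a b, hz (h.B (v a) b) (h.B a b)⁻¹]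
      group
    have e4 : ((β a * β b * h.B ((v a)⁻¹ * a) b : Z) : N) *
        (((h.B (v a) b * h.B b a : Z) : N) * (h.ρ (v a) * h.ρ (v b)))
        = ((β a * β b : Z) : N) * (h.ρ (v a) * h.ρ (v b)) := by
      rw [← mul_assoc, ← Subgroup.coe_mul, mul_assoc (β a * β b), e3, mul_one]
    have e5 : ((β a * β b : Z) : N) * (h.ρ (v a) * h.ρ (v b)) = a * b := by
      conv_rhs => rw [ha, hb]
      rw [Subgroup.coe_mul, mul_assoc, ← mul_assoc (β b : N), h.zc (β b)]
      simp only [mul_assoc]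
    rw [← e5, ← e4]
    rfl

/-- **the core**: every `m` is hit -/
theorem core (h : Fr Z X Y) [Finite N]
    (hnd : ∀ K : Subgroup N, K ≤ Z → K ≠ Z → ∀ r : N, (∀ n, r * n * r⁻¹ * n⁻¹ ∈ K) → r ∈ Z)
    (hr : (Nat.card Z - 1) ^ 2 * Nat.card {u : N | X u * (Y u)⁻¹ ∈ Z} < Nat.card N) (m : N) :
    ∃ u v, u * (X u)⁻¹ * m = v * (Y v)⁻¹ := by
  classical
  obtain ⟨v, β, hv, hβ1, hβz, hβ⟩ := h.symm.exists_label
  have hz : ∀ p q : Z, p * q = q * p := fun p q => Subtype.ext (h.zc p q)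
  let g : N → Z := fun u => β (h.ρ u * m)
  by_cases hex : ∃ u, g u = 1
  · obtain ⟨u, hu⟩ := hex
    refine ⟨u, v (h.ρ u * m), ?_⟩
    have e := hv (h.ρ u * m)
    have hu' : β (h.ρ u * m) = 1 := hu
    rw [hu', Subgroup.coe_one, one_mul] at e
    exact e
  exfalso
  push Not at hex
  let t : N → N := fun a => (v a)⁻¹ * a
  let r : N → N := fun u => u * (h.ρ u)⁻¹ * t (h.ρ u)
  have hB : ∀ a b, h.symm.B a b = h.B a b := fun a b => rfl
  have hg : ∀ u w, g (u * w) * β m = g u * g w * h.B (r u) (h.ρ w) := by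
    intro u w
    have e1 : h.ρ (u * w) * m
        = ((h.B u (h.ρ w) * h.B (h.ρ w) (h.ρ u) : Z) : N) * (h.ρ u * (h.ρ w * m)) := by
      rw [h.ρ_mul, Subgroup.coe_mul]
      simp only [mul_assoc]
    have e2 : g (u * w) = h.B u (h.ρ w) * h.B (h.ρ w) (h.ρ u) *
        (β (h.ρ u) * β (h.ρ w * m) * h.B (t (h.ρ u)) (h.ρ w * m)) := by
      show β (h.ρ (u * w) * m) = _
      rw [e1, hβz, hβ, hB]
    have e3 : g u = β (h.ρ u) * β m * h.B (t (h.ρ u)) m := by
      show β (h.ρ u * m) = _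
      rw [hβ, hB]
    have e4 : g w = β (h.ρ w * m) := rfl
    have e5 : h.B (r u) (h.ρ w) = h.B u (h.ρ w) * h.B (h.ρ w) (h.ρ u) * h.B (t (h.ρ u)) (h.ρ w) := by
      show h.B (u * (h.ρ u)⁻¹ * t (h.ρ u)) (h.ρ w) = _
      rw [B_mul_left, B_mul_left, B_inv_left, ← B_symm]
    rw [e2, e3, e4, e5, B_mul_right]
    let _ : CommGroup Z := { (inferInstance : Group Z) with mul_comm := hz }
    generalize h.B u (h.ρ w) = a1
    generalize h.B (h.ρ w) (h.ρ u) = a2
    generalize β (h.ρ u) = a3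
    generalize β (h.ρ w * m) = a4
    generalize h.B (t (h.ρ u)) (h.ρ w) = a5
    generalize h.B (t (h.ρ u)) m = a6
    generalize β m = a7
    have e : ∀ a1 a2 a3 a4 a5 a6 a7 : Z, a1 * a2 * (a3 * a4 * (a5 * a6)) * a7
        = a3 * a7 * a6 * a4 * (a1 * a2 * a5) := by
      intro a1 a2 a3 a4 a5 a6 a7
      simp only [mul_comm, mul_left_comm]
    exact e a1 a2 a3 a4 a5 a6 a7
  let _ : Fintype N := Fintype.ofFinite N
  let _ : CommGroup Z := { (inferInstance : Group Z) with mul_comm := hz }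
  let _ : Fintype Z := Fintype.ofFinite Z
  let f : AddChar (Additive Z) ℂ → N → ℂ := fun ψ u => ψ (Additive.ofMul (g u))
  have hρ1 : h.ρ 1 = 1 := by simp [ρ]
  have hg1 : g 1 = β m := by
    show β (h.ρ 1 * m) = β m
    rw [hρ1, one_mul]
  have hbound : ∀ ψ : AddChar (Additive Z) ℂ, ψ ≠ 0 →
      ‖∑ u, f ψ u‖ ^ 2 ≤ (Nat.card {u : N | X u * (Y u)⁻¹ ∈ Z} : ℝ) * (Fintype.card N : ℝ) := by
    intro ψ hψ
    refine gauss_bound (f ψ) (fun u => AddChar.norm_apply ψ _)
      (fun u w => ψ (Additive.ofMul (h.B (r u) (h.ρ w)))) ?_ ?_ _ ?_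
    · intro u w
      have e := congrArg (fun t : Z => ψ (Additive.ofMul t)) (hg u w)
      simp only [ofMul_mul, AddChar.map_add_eq_mul] at e
      show ψ (Additive.ofMul (g (u * w))) * (starRingEnd ℂ) (ψ (Additive.ofMul (g w)))
        = ψ (Additive.ofMul (g u)) * (starRingEnd ℂ) (ψ (Additive.ofMul (g 1)))
          * ψ (Additive.ofMul (h.B (r u) (h.ρ w)))
      rw [hg1]
      have n1 : ψ (Additive.ofMul (g w)) * (starRingEnd ℂ) (ψ (Additive.ofMul (g w))) = 1 := by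
        rw [Complex.mul_conj, Complex.normSq_eq_norm_sq, AddChar.norm_apply]; simp
      have n2 : ψ (Additive.ofMul (β m)) * (starRingEnd ℂ) (ψ (Additive.ofMul (β m))) = 1 := by
        rw [Complex.mul_conj, Complex.normSq_eq_norm_sq, AddChar.norm_apply]; simp
      calc ψ (Additive.ofMul (g (u * w))) * (starRingEnd ℂ) (ψ (Additive.ofMul (g w)))
          = ψ (Additive.ofMul (g (u * w))) * (ψ (Additive.ofMul (β m)) *
              (starRingEnd ℂ) (ψ (Additive.ofMul (β m))))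
              * (starRingEnd ℂ) (ψ (Additive.ofMul (g w))) := by rw [n2, mul_one]
        _ = (ψ (Additive.ofMul (g (u * w))) * ψ (Additive.ofMul (β m))) *
              (starRingEnd ℂ) (ψ (Additive.ofMul (β m)))
              * (starRingEnd ℂ) (ψ (Additive.ofMul (g w))) := by ring
        _ = ψ (Additive.ofMul (g u)) * (starRingEnd ℂ) (ψ (Additive.ofMul (β m)))
              * ψ (Additive.ofMul (h.B (r u) (h.ρ w))) *
              (ψ (Additive.ofMul (g w)) * (starRingEnd ℂ) (ψ (Additive.ofMul (g w)))) := by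
            rw [e]; ring
        _ = _ := by rw [n1, mul_one]
    · intro u a b
      show ψ (Additive.ofMul (h.B (r u) (h.ρ (a * b)))) = ψ (Additive.ofMul (h.B (r u) (h.ρ a)))
        * ψ (Additive.ofMul (h.B (r u) (h.ρ b)))
      rw [← AddChar.map_add_eq_mul, ← ofMul_mul, ← B_mul_right, h.ρ_mul, ← Subgroup.coe_mul,
        B_mul_right, B_z_right, one_mul]
    · intro u hu
      let K0 : Subgroup Z :=
        { carrier := {z | ψ (Additive.ofMul z) = 1}
          one_mem' := by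
            show ψ (Additive.ofMul 1) = 1
            exact AddChar.map_zero_eq_one ψ
          mul_mem' := by
            intro a b ha hb
            show ψ (Additive.ofMul (a * b)) = 1
            have ha' : ψ (Additive.ofMul a) = 1 := ha
            have hb' : ψ (Additive.ofMul b) = 1 := hb
            rw [ofMul_mul, AddChar.map_add_eq_mul, ha', hb', one_mul]
          inv_mem' := by
            intro a ha
            show ψ (Additive.ofMul a⁻¹) = 1
            have ha' : ψ (Additive.ofMul a) = 1 := ha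
            have e : ψ (Additive.ofMul a⁻¹) * ψ (Additive.ofMul a) = 1 := by
              rw [← AddChar.map_add_eq_mul, ← ofMul_mul, inv_mul_cancel]
              exact AddChar.map_zero_eq_one ψ
            rwa [ha', mul_one] at e }
      have hK : K0.map Z.subtype ≠ Z := by
        intro e
        apply hψ
        ext z
        have h1 : ((Additive.toMul z : Z) : N) ∈ K0.map Z.subtype := by
          rw [e]; exact (Additive.toMul z).2
        obtain ⟨z', hz', e'⟩ := h1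
        have e'' : z' = Additive.toMul z := Subtype.ext e'
        rw [e''] at hz'
        exact hz'
      have hru : r u ∈ Z := by
        refine hnd _ ?_ hK (r u) ?_
        · rintro _ ⟨z, -, rfl⟩
          exact z.2
        · intro n
          obtain ⟨w, z, e⟩ := h.ρ_surj n
          refine ⟨h.B (r u) n, ?_, rfl⟩
          show ψ (Additive.ofMul (h.B (r u) n)) = 1
          rw [e, B_mul_right, B_z_right, one_mul]
          exact hu w
      -- `u ≡ v` modulo `Z`
      show X u * (Y u)⁻¹ ∈ Z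
      have hn := h.normal
      let π : N →* N ⧸ Z := QuotientGroup.mk' Z
      have hπ : ∀ a, π a = 1 ↔ a ∈ Z := fun a => QuotientGroup.eq_one_iff a
      have hπz : ∀ z : Z, π z = 1 := fun z => (hπ z).2 z.2
      have hc : ∀ a b, π a * π b = π b * π a := by
        intro a b
        rw [← map_mul, ← map_mul, h.swap a b, map_mul, hπz, one_mul]
      have e1 : π u = π (v (h.ρ u)) := by
        have e4 : π u * (π (v (h.ρ u)))⁻¹ = 1 := by
          calc π u * (π (v (h.ρ u)))⁻¹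
              = π u * (π (h.ρ u))⁻¹ * (π (h.ρ u) * (π (v (h.ρ u)))⁻¹) := by group
            _ = π u * (π (h.ρ u))⁻¹ * ((π (v (h.ρ u)))⁻¹ * π (h.ρ u)) := by
                rw [← map_inv π (v (h.ρ u)), hc]
            _ = π (u * (h.ρ u)⁻¹ * ((v (h.ρ u))⁻¹ * h.ρ u)) := by
                simp only [map_mul, map_inv]
            _ = 1 := (hπ _).2 hru
        exact mul_inv_eq_one.1 e4
      have e5 : π (h.ρ u) = π (v (h.ρ u)) * (π (Y (v (h.ρ u))))⁻¹ := by
        conv_lhs => rw [hv (h.ρ u)]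
        rw [map_mul, hπz, one_mul]
        show π (v (h.ρ u) * (Y (v (h.ρ u)))⁻¹) = _
        rw [map_mul, map_inv]
      have e6 : π (Y (v (h.ρ u))) = π (Y u) := by
        have e7 : (v (h.ρ u))⁻¹ * u ∈ Z := by
          rw [← hπ, map_mul, map_inv, e1, inv_mul_cancel]
        have e8 : Y ((v (h.ρ u))⁻¹ * u) ∈ Z := by
          rw [h.fY _ e7]; exact e7
        rw [← hπ, map_mul, map_mul, map_inv, map_inv] at e8
        exact inv_mul_eq_one.1 e8
      have e9 : π u * (π (X u))⁻¹ = π u * (π (Y u))⁻¹ := by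
        have e10 : π (h.ρ u) = π u * (π (X u))⁻¹ := by
          show π (u * (X u)⁻¹) = _
          rw [map_mul, map_inv]
        rw [← e10, e5, e6, ← e1]
      rw [← hπ, map_mul, map_inv, mul_inv_eq_one]
      exact inv_injective (mul_left_cancel e9)
  -- orthogonality
  have hsum : (∑ ψ : AddChar (Additive Z) ℂ, ∑ u, f ψ u) = 0 := by
    rw [Finset.sum_comm]
    refine Finset.sum_eq_zero fun u _ => ?_
    show (∑ ψ : AddChar (Additive Z) ℂ, ψ (Additive.ofMul (g u))) = 0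
    rw [AddChar.sum_apply_eq_ite, if_neg]
    intro e
    exact hex u (by simpa using e)
  have h0 : (∑ u, f 0 u) = (Fintype.card N : ℂ) := by
    simp [f]
  have hsum2 : (Fintype.card N : ℂ) = - ∑ ψ ∈ Finset.univ.erase (0 : AddChar (Additive Z) ℂ), ∑ u, f ψ u := by
    rw [← Finset.add_sum_erase _ _ (Finset.mem_univ (0 : AddChar (Additive Z) ℂ)), h0] at hsum
    exact eq_neg_of_add_eq_zero_left hsum
  set R : ℝ := (Nat.card {u : N | X u * (Y u)⁻¹ ∈ Z} : ℝ) with hR
  set n : ℝ := (Fintype.card N : ℝ) with hn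
  have hnpos : 0 < n := by
    rw [hn]; exact_mod_cast Fintype.card_pos
  have hbound' : ∀ ψ : AddChar (Additive Z) ℂ, ψ ≠ 0 → ‖∑ u, f ψ u‖ ≤ Real.sqrt (R * n) := by
    intro ψ hψ
    exact Real.le_sqrt_of_sq_le (hbound ψ hψ)
  have h3 : n ≤ ((Nat.card Z - 1 : ℕ) : ℝ) * Real.sqrt (R * n) := by
    have e1 : n = ‖(Fintype.card N : ℂ)‖ := by
      rw [hn]; simp
    have e2 : Fintype.card (Additive Z) = Nat.card Z := by
      rw [← Nat.card_eq_fintype_card]; rfl
    calc n = ‖(Fintype.card N : ℂ)‖ := e1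
      _ = ‖∑ ψ ∈ Finset.univ.erase (0 : AddChar (Additive Z) ℂ), ∑ u, f ψ u‖ := by
          rw [hsum2, norm_neg]
      _ ≤ ∑ ψ ∈ Finset.univ.erase (0 : AddChar (Additive Z) ℂ), ‖∑ u, f ψ u‖ := norm_sum_le _ _
      _ ≤ ∑ ψ ∈ Finset.univ.erase (0 : AddChar (Additive Z) ℂ), Real.sqrt (R * n) :=
          Finset.sum_le_sum fun ψ hψ => hbound' ψ (Finset.ne_of_mem_erase hψ)
      _ = _ := by
          rw [Finset.sum_const, Finset.card_erase_of_mem (Finset.mem_univ _), Finset.card_univ,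
            AddChar.card_eq, nsmul_eq_mul, e2]
  have h4 : n ^ 2 ≤ ((Nat.card Z - 1 : ℕ) : ℝ) ^ 2 * (R * n) := by
    have hRn : 0 ≤ R * n := by positivity
    calc n ^ 2 ≤ (((Nat.card Z - 1 : ℕ) : ℝ) * Real.sqrt (R * n)) ^ 2 := by
          exact pow_le_pow_left₀ hnpos.le h3 2
      _ = _ := by rw [mul_pow, Real.sq_sqrt hRn]
  have h5 : n ≤ ((Nat.card Z - 1 : ℕ) : ℝ) ^ 2 * R := by
    have : n * n ≤ (((Nat.card Z - 1 : ℕ) : ℝ) ^ 2 * R) * n := by
      calc n * n = n ^ 2 := by ring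
        _ ≤ _ := h4
        _ = _ := by ring
    exact le_of_mul_le_mul_right this hnpos
  have h6 : (Nat.card N : ℝ) ≤ (((Nat.card Z - 1) ^ 2 * Nat.card {u : N | X u * (Y u)⁻¹ ∈ Z} : ℕ) : ℝ) := by
    push_cast
    rw [Nat.card_eq_fintype_card (α := N)]
    exact h5
  have h7 := Nat.cast_le.1 h6
  omega

end Fr

end core

end Cfsg.Agent.H590.F4
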